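import Mathlib
import Groth.Agent.KInj.Functorial

/-!
# `Ext` out of an object and filtered colimits in a Grothendieck abelian category
-/

set_option linter.style.haveILetI false

universe v u

open CategoryTheory CategoryTheory.Limits Opposite Abelian

noncomputable section

namespace Groth.Agent.CohColim

variable {A : Type u} [Category.{v} A]

/-- Criterion for a functor to abelian groups to preserve a filtered colimit, on elements. -/
theorem preservesColimit_addCommGrp {Λ : Type v} [SmallCategory Λ] [IsFiltered Λ]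
    (G : A ⥤ AddCommGrpCat.{v}) (D : Λ ⥤ A) [HasColimit D]
    (hs : ∀ x : G.obj (colimit D), ∃ (i : Λ) (y : G.obj (D.obj i)), G.map (colimit.ι D i) y = x)
    (hi : ∀ (i : Λ) (y : G.obj (D.obj i)), G.map (colimit.ι D i) y = 0 →
      ∃ (j : Λ) (f : i ⟶ j), G.map (D.map f) y = 0) : PreservesColimit D G := by
  refine preservesColimit_of_preserves_colimit_cocone (colimit.isColimit D) ?_
  haveI : ReflectsColimitsOfShape Λ (forget AddCommGrpCat.{v}) :=
    reflectsColimitsOfShape_of_reflectsIsomorphisms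
  refine isColimitOfReflects (forget AddCommGrpCat.{v}) (Types.FilteredColimit.isColimitOf' _ _
    (fun x => ?_) (fun i x y e => ?_))
  · obtain ⟨i, z, hz⟩ := hs x
    exact ⟨i, z, hz.symm⟩
  · obtain ⟨x', rfl⟩ : ∃ x' : G.obj (D.obj i), x' = x := ⟨x, rfl⟩
    obtain ⟨y', rfl⟩ : ∃ y' : G.obj (D.obj i), y' = y := ⟨y, rfl⟩
    have e' : G.map (colimit.ι D i) x' = G.map (colimit.ι D i) y' := e
    obtain ⟨j, f, hf⟩ := hi i (x' - y')
      ((map_sub (G.map (colimit.ι D i)).hom x' y').trans (sub_eq_zero.2 e'))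
    exact ⟨j, f, sub_eq_zero.1 ((map_sub (G.map (D.map f)).hom x' y').symm.trans hf)⟩

/-- The converse of `preservesColimit_addCommGrp`. -/
theorem exists_of_preservesColimit {Λ : Type v} [SmallCategory Λ] [IsFiltered Λ]
    (G : A ⥤ AddCommGrpCat.{v}) (D : Λ ⥤ A) [HasColimit D] [PreservesColimit D G] :
    (∀ x : G.obj (colimit D), ∃ (i : Λ) (y : G.obj (D.obj i)), G.map (colimit.ι D i) y = x) ∧
      ∀ (i : Λ) (y : G.obj (D.obj i)), G.map (colimit.ι D i) y = 0 →
        ∃ (j : Λ) (f : i ⟶ j), G.map (D.map f) y = 0 := by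
  have hc := isColimitOfPreserves (forget AddCommGrpCat.{v})
    (isColimitOfPreserves G (colimit.isColimit D))
  refine ⟨fun x => Types.jointly_surjective _ hc x, fun i y e => ?_⟩
  obtain ⟨j, f, g, h⟩ := (Types.FilteredColimit.isColimit_eq_iff _ hc).1
    (show G.map (colimit.ι D i) y = G.map (colimit.ι D i) 0 from
      e.trans (map_zero (G.map (colimit.ι D i)).hom).symm)
  exact ⟨j, f, Eq.trans (show G.map (D.map f) y = G.map (D.map g) 0 from h)
    (map_zero (G.map (D.map g)).hom)⟩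

variable [Abelian A] [IsGrothendieckAbelian.{v} A] [HasExt.{v} A]
variable (Λ : Type v) [SmallCategory Λ] [IsFiltered Λ]

/-- `Ext^q(P, -)` commutes with colimits of shape `Λ`, on elements. -/
def ExtColim (P : A) (q : ℕ) : Prop :=
  ∀ D : Λ ⥤ A,
    (∀ x : Ext P (colimit D) q, ∃ (i : Λ) (y : Ext P (D.obj i) q),
      y.comp (Ext.mk₀ (colimit.ι D i)) (add_zero q) = x) ∧
    ∀ (i : Λ) (y : Ext P (D.obj i) q), y.comp (Ext.mk₀ (colimit.ι D i)) (add_zero q) = 0 →
      ∃ (j : Λ) (f : i ⟶ j), y.comp (Ext.mk₀ (D.map f)) (add_zero q) = 0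

theorem ExtColim.preserves {P : A} {q : ℕ} (h : ExtColim Λ P q) :
    PreservesColimitsOfShape Λ ((extFunctor.{v} q).obj (op P)) :=
  ⟨fun {D} => preservesColimit_addCommGrp _ D (h D).1 (h D).2⟩

theorem ExtColim.of_iso {P P' : A} (e : P ≅ P') {q : ℕ} (h : ExtColim Λ P q) :
    ExtColim Λ P' q := by
  intro D
  obtain ⟨hs, hi⟩ := h D
  refine ⟨fun x => ?_, fun i y hy => ?_⟩
  · obtain ⟨i, y, hy⟩ := hs ((Ext.mk₀ e.hom).comp x (zero_add q))
    refine ⟨i, (Ext.mk₀ e.inv).comp y (zero_add q), ?_⟩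
    rw [Ext.comp_assoc_of_third_deg_zero, hy, Ext.mk₀_comp_mk₀_assoc, e.inv_hom_id,
      Ext.mk₀_id_comp]
  · obtain ⟨j, f, hf⟩ := hi i ((Ext.mk₀ e.hom).comp y (zero_add q))
      (by rw [Ext.comp_assoc_of_third_deg_zero, hy, Ext.comp_zero])
    refine ⟨j, f, ?_⟩
    have h' := congrArg (fun z => (Ext.mk₀ e.inv).comp z (zero_add q)) hf
    simpa [Ext.comp_assoc_of_third_deg_zero] using h'

/-- The extension of a natural morphism of short exact sequences commutes with the class. -/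
theorem comp_extClass_natural {P : A} {S₁ S₂ : ShortComplex A} (h₁ : S₁.ShortExact)
    (h₂ : S₂.ShortExact) (f : S₁ ⟶ S₂) {n m : ℕ} (hnm : n + 1 = m) (x : Ext P S₁.X₃ n) :
    (x.comp h₁.extClass hnm).comp (Ext.mk₀ f.τ₁) (add_zero m) =
      (x.comp (Ext.mk₀ f.τ₃) (add_zero n)).comp h₂.extClass hnm := by
  rw [Ext.comp_assoc_of_third_deg_zero, ShortComplex.ShortExact.extClass_naturality h₁ h₂ f,
    ← Ext.comp_assoc_of_second_deg_zero]

theorem comp_mk₀_natural {P X Y X' Y' : A} {g : X ⟶ Y} {g' : X' ⟶ Y'} {a : X ⟶ X'} {b : Y ⟶ Y'}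
    (h : g ≫ b = a ≫ g') {n : ℕ} (x : Ext P X n) :
    (x.comp (Ext.mk₀ g) (add_zero n)).comp (Ext.mk₀ b) (add_zero n) =
      (x.comp (Ext.mk₀ a) (add_zero n)).comp (Ext.mk₀ g') (add_zero n) := by
  rw [Ext.comp_assoc_of_second_deg_zero, Ext.comp_assoc_of_second_deg_zero, Ext.mk₀_comp_mk₀,
    Ext.mk₀_comp_mk₀, h]

section step

variable {Λ} {T : ShortComplex (Λ ⥤ A)}

/-- The short complex at an index. -/
abbrev atIdx (T : ShortComplex (Λ ⥤ A)) (i : Λ) : ShortComplex A :=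
  ShortComplex.mk (T.f.app i) (T.g.app i) (by rw [← NatTrans.comp_app, T.zero]; rfl)

/-- The short complex of colimits. -/
abbrev atColim (T : ShortComplex (Λ ⥤ A)) : ShortComplex A :=
  ShortComplex.mk (colimMap T.f) (colimMap T.g) (by
    ext i
    rw [ι_colimMap_assoc, ι_colimMap, ← Category.assoc, ← NatTrans.comp_app, T.zero, comp_zero]
    exact zero_comp)

/-- The comparison with the colimit. -/
def toColim (T : ShortComplex (Λ ⥤ A)) (i : Λ) : atIdx T i ⟶ atColim T where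
  τ₁ := colimit.ι T.X₁ i
  τ₂ := colimit.ι T.X₂ i
  τ₃ := colimit.ι T.X₃ i
  comm₁₂ := ι_colimMap T.f i
  comm₂₃ := ι_colimMap T.g i

/-- The transition maps. -/
def trans' (T : ShortComplex (Λ ⥤ A)) {i k : Λ} (f : i ⟶ k) : atIdx T i ⟶ atIdx T k where
  τ₁ := T.X₁.map f
  τ₂ := T.X₂.map f
  τ₃ := T.X₃.map f
  comm₁₂ := T.f.naturality f
  comm₂₃ := T.g.naturality f

theorem step_surj {P : A} {q : ℕ} (he : ∀ i, (atIdx T i).ShortExact)
    (hc : (atColim T).ShortExact) (hac : Subsingleton (Ext P (colimit T.X₂) (q + 1)))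
    (h₃ : ExtColim Λ P q) (x : Ext P (colimit T.X₁) (q + 1)) :
    ∃ (i : Λ) (y : Ext P (T.X₁.obj i) (q + 1)),
      y.comp (Ext.mk₀ (colimit.ι T.X₁ i)) (add_zero _) = x := by
  haveI : Subsingleton (Ext P (atColim T).X₂ (q + 1)) := hac
  obtain ⟨z, hz⟩ := Ext.covariant_sequence_exact₁ P hc x (Subsingleton.elim _ _) rfl
  obtain ⟨i, z', hz'⟩ := (h₃ T.X₃).1 z
  refine ⟨i, z'.comp (he i).extClass rfl, ?_⟩
  refine (comp_extClass_natural (he i) hc (toColim T i) rfl z').trans ?_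
  rw [← hz]
  exact congrArg (fun w : Ext P (atColim T).X₃ q => w.comp hc.extClass rfl) hz'

theorem step_inj {P : A} {q : ℕ} (he : ∀ i, (atIdx T i).ShortExact)
    (hc : (atColim T).ShortExact) (hinj : ∀ i, Injective (T.X₂.obj i))
    (h₃ : ExtColim Λ P q) (i : Λ) (y : Ext P (T.X₁.obj i) (q + 1))
    (hy : y.comp (Ext.mk₀ (colimit.ι T.X₁ i)) (add_zero _) = 0) :
    ∃ (m : Λ) (f : i ⟶ m), y.comp (Ext.mk₀ (T.X₁.map f)) (add_zero _) = 0 := by
  haveI : Injective (atIdx T i).X₂ := hinj i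
  obtain ⟨z, hz⟩ := Ext.covariant_sequence_exact₁ P (he i) y (Ext.eq_zero_of_injective _) rfl
  have h0 : (z.comp (Ext.mk₀ (toColim T i).τ₃) (add_zero q)).comp hc.extClass rfl = 0 := by
    rw [← comp_extClass_natural (he i) hc (toColim T i) rfl z, hz]
    exact hy
  obtain ⟨w, hw⟩ := Ext.covariant_sequence_exact₃ P hc _ rfl h0
  obtain ⟨k, w', hw'⟩ := (h₃ T.X₂).1 w
  let zl := z.comp (Ext.mk₀ (T.X₃.map (IsFiltered.leftToMax i k))) (add_zero q)
  let wl := w'.comp (Ext.mk₀ (T.X₂.map (IsFiltered.rightToMax i k) ≫ T.g.app _)) (add_zero q)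
  have hzl : zl.comp (Ext.mk₀ (colimit.ι T.X₃ _)) (add_zero q) =
      wl.comp (Ext.mk₀ (colimit.ι T.X₃ _)) (add_zero q) := by
    simp only [zl, wl, Ext.comp_assoc_of_second_deg_zero, Ext.mk₀_comp_mk₀, colimit.w,
      Category.assoc]
    rw [← ι_colimMap T.g, ← Category.assoc (T.X₂.map _), colimit.w, ← Ext.mk₀_comp_mk₀,
      ← Ext.comp_assoc_of_second_deg_zero, hw']
    exact hw.symm
  obtain ⟨m, f, hm⟩ := (h₃ T.X₃).2 _ (zl + -wl) (by rw [Ext.add_comp, Ext.neg_comp, hzl, add_neg_cancel])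
  rw [Ext.add_comp, Ext.neg_comp, add_neg_eq_zero] at hm
  refine ⟨m, IsFiltered.leftToMax i k ≫ f, ?_⟩
  rw [← hz]
  refine (comp_extClass_natural (he i) (he m) (trans' T (IsFiltered.leftToMax i k ≫ f)) rfl z).trans ?_
  have e : z.comp (Ext.mk₀ (trans' T (IsFiltered.leftToMax i k ≫ f)).τ₃) (add_zero q) =
      (w'.comp (Ext.mk₀ (T.X₂.map (IsFiltered.rightToMax i k ≫ f))) (add_zero q)).comp
        (Ext.mk₀ (atIdx T m).g) (add_zero q) := by
    simp only [zl, wl, Ext.comp_assoc_of_second_deg_zero, Ext.mk₀_comp_mk₀, Category.assoc] at hm ⊢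
    rw [T.X₂.map_comp, Category.assoc]
    refine Eq.trans ?_ (hm.trans ?_)
    · simp only [trans', Functor.map_comp]
    · rw [← T.g.naturality f]
  rw [e, Ext.comp_assoc_of_second_deg_zero, ShortComplex.ShortExact.comp_extClass, Ext.comp_zero]

end step

/-- If `Hom(P, -)` commutes with filtered colimits and filtered colimits of injectives are acyclic
for `P`, all `Ext^q(P, -)` commute with filtered colimits. -/
theorem extColim_of_acyclic {P : A} (h0 : ExtColim Λ P 0)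
    (hac : ∀ D : Λ ⥤ A, (∀ i, Injective (D.obj i)) → ∀ q : ℕ,
      Subsingleton (Ext P (colimit D) (q + 1))) : ∀ q, ExtColim Λ P q := by
  intro q
  induction q with
  | zero => exact h0
  | succ q ih =>
    intro D
    obtain ⟨Jf, j, hj⟩ := KInj.exists_functorial_injective_embedding A
    let η : D ⟶ D ⋙ Jf := Functor.whiskerLeft D j
    haveI : ∀ i, Mono (η.app i) := fun i => (hj _).2
    haveI : Mono η := NatTrans.mono_of_mono_app η
    let T : ShortComplex (Λ ⥤ A) := ShortComplex.mk η (cokernel.π η) (cokernel.condition η)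
    have hT : T.ShortExact :=
      ⟨ShortComplex.exact_of_g_is_cokernel _ (cokernelIsCokernel η)⟩
    haveI : PreservesFiniteColimits (colim : (Λ ⥤ A) ⥤ A) := by
      haveI : PreservesColimitsOfSize.{0, 0} (colim : (Λ ⥤ A) ⥤ A) :=
        colimConstAdj.leftAdjoint_preservesColimits
      infer_instance
    haveI : (colim : (Λ ⥤ A) ⥤ A).PreservesZeroMorphisms :=
      Functor.preservesZeroMorphisms_of_isLeftAdjoint _
    have hc : (atColim T).ShortExact := hT.map_of_exact (colim : (Λ ⥤ A) ⥤ A)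
    have he : ∀ i, (atIdx T i).ShortExact := fun i => hT.map_of_exact ((evaluation Λ A).obj i)
    exact ⟨step_surj (T := T) he hc (hac (D ⋙ Jf) (fun i => (hj _).1) q) ih,
      step_inj (T := T) he hc (fun i => (hj _).1) ih⟩

/-- Five lemma: `Ext(-, colim)` commutes for a quotient. -/
theorem extColim_of_shortExact {S : ShortComplex A} (hS : S.ShortExact)
    (h₁ : ∀ q, ExtColim Λ S.X₁ q) (h₂ : ∀ q, ExtColim Λ S.X₂ q) : ∀ q, ExtColim Λ S.X₃ q := by
  intro q D
  haveI := hS.epi_g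
  cases q with
  | zero =>
    refine ⟨fun x => ?_, fun i y hy => ?_⟩
    · obtain ⟨φ, rfl⟩ := (Ext.mk₀_bijective _ _).2 x
      obtain ⟨i, y, hy⟩ := (h₂ 0 D).1 (Ext.mk₀ (S.g ≫ φ))
      obtain ⟨a, rfl⟩ := (Ext.mk₀_bijective _ _).2 y
      rw [Ext.mk₀_comp_mk₀] at hy
      have ha := (Ext.mk₀_bijective _ _).1 hy
      obtain ⟨j, f, hf⟩ := (h₁ 0 D).2 i (Ext.mk₀ (S.f ≫ a))
        (by rw [Ext.mk₀_comp_mk₀, Category.assoc, ha, ← Category.assoc, S.zero, zero_comp,
          Ext.mk₀_zero])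
      rw [Ext.mk₀_comp_mk₀, Ext.mk₀_eq_zero_iff, Category.assoc] at hf
      refine ⟨j, Ext.mk₀ (hS.exact.desc (a ≫ D.map f) hf), ?_⟩
      rw [Ext.mk₀_comp_mk₀]
      congr 1
      rw [← cancel_epi S.g, ShortComplex.Exact.g_desc_assoc, Category.assoc, colimit.w, ha]
    · obtain ⟨b, rfl⟩ := (Ext.mk₀_bijective _ _).2 y
      rw [Ext.mk₀_comp_mk₀, Ext.mk₀_eq_zero_iff] at hy
      obtain ⟨j, f, hf⟩ := (h₂ 0 D).2 i (Ext.mk₀ (S.g ≫ b))
        (by rw [Ext.mk₀_comp_mk₀, Category.assoc, hy, comp_zero, Ext.mk₀_zero])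
      rw [Ext.mk₀_comp_mk₀, Ext.mk₀_eq_zero_iff, Category.assoc] at hf
      refine ⟨j, f, ?_⟩
      rw [Ext.mk₀_comp_mk₀, Ext.mk₀_eq_zero_iff, ← cancel_epi S.g, hf, comp_zero]
  | succ q =>
    have hq : 1 + q = q + 1 := add_comm 1 q
    have surj : ∀ x : Ext S.X₃ (colimit D) (q + 1), ∃ (i : Λ) (y : Ext S.X₃ (D.obj i) (q + 1)),
        y.comp (Ext.mk₀ (colimit.ι D i)) (add_zero _) = x := fun x => by
      obtain ⟨i, y, hy⟩ := (h₂ (q + 1) D).1 ((Ext.mk₀ S.g).comp x (zero_add _))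
      obtain ⟨j, f, hf⟩ := (h₁ (q + 1) D).2 i ((Ext.mk₀ S.f).comp y (zero_add _)) (by
        rw [Ext.comp_assoc_of_third_deg_zero, hy, Ext.mk₀_comp_mk₀_assoc, S.zero, Ext.mk₀_zero,
          Ext.zero_comp])
      rw [Ext.comp_assoc_of_third_deg_zero] at hf
      obtain ⟨z, hz⟩ := Ext.contravariant_sequence_exact₂ hS (D.obj j) _ hf
      obtain ⟨w, hw⟩ := Ext.contravariant_sequence_exact₃ hS (colimit D)
        (x - z.comp (Ext.mk₀ (colimit.ι D j)) (add_zero _)) (by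
          rw [sub_eq_add_neg, Ext.comp_add, Ext.comp_neg, ← sub_eq_add_neg, ← Ext.comp_assoc_of_third_deg_zero, hz,
            Ext.comp_assoc_of_second_deg_zero, Ext.mk₀_comp_mk₀, colimit.w, hy, sub_self]) hq
      obtain ⟨k, w', hw'⟩ := (h₁ q D).1 w
      refine ⟨IsFiltered.max j k, z.comp (Ext.mk₀ (D.map (IsFiltered.leftToMax j k))) (add_zero _) +
        (hS.extClass.comp w' hq).comp (Ext.mk₀ (D.map (IsFiltered.rightToMax j k))) (add_zero _), ?_⟩
      rw [Ext.add_comp, Ext.comp_assoc_of_second_deg_zero, Ext.comp_assoc_of_second_deg_zero,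
        Ext.mk₀_comp_mk₀, Ext.mk₀_comp_mk₀, colimit.w, colimit.w, Ext.comp_assoc_of_third_deg_zero,
        hw', hw]
      abel
    refine ⟨surj, fun i y hy => ?_⟩
    obtain ⟨j, f, hf⟩ := (h₂ (q + 1) D).2 i ((Ext.mk₀ S.g).comp y (zero_add _))
      (by rw [Ext.comp_assoc_of_third_deg_zero, hy, Ext.comp_zero])
    rw [Ext.comp_assoc_of_third_deg_zero] at hf
    obtain ⟨w, hw⟩ := Ext.contravariant_sequence_exact₃ hS (D.obj j) _ hf hq
    have h0 : hS.extClass.comp (w.comp (Ext.mk₀ (colimit.ι D j)) (add_zero q)) hq = 0 := by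
      rw [← Ext.comp_assoc_of_third_deg_zero, hw, Ext.comp_assoc_of_second_deg_zero,
        Ext.mk₀_comp_mk₀, colimit.w, hy]
    obtain ⟨v, hv⟩ := Ext.contravariant_sequence_exact₁ hS (colimit D) _ hq h0
    obtain ⟨k, v', hv'⟩ := (h₂ q D).1 v
    let wl := w.comp (Ext.mk₀ (D.map (IsFiltered.leftToMax j k))) (add_zero q)
    let vl := (Ext.mk₀ S.f).comp (v'.comp (Ext.mk₀ (D.map (IsFiltered.rightToMax j k))) (add_zero q))
      (zero_add q)
    obtain ⟨m, g, hm⟩ := (h₁ q D).2 _ (wl + -vl) (by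
      rw [Ext.add_comp, Ext.neg_comp]
      simp only [wl, vl, Ext.comp_assoc_of_second_deg_zero, Ext.comp_assoc_of_third_deg_zero,
        Ext.mk₀_comp_mk₀, colimit.w]
      rw [hv', hv, add_neg_cancel])
    rw [Ext.add_comp, Ext.neg_comp, add_neg_eq_zero] at hm
    refine ⟨m, f ≫ IsFiltered.leftToMax j k ≫ g, ?_⟩
    have h5 := congrArg (fun z => hS.extClass.comp z hq) hm
    simp only [wl, vl, Ext.comp_assoc_of_second_deg_zero, Ext.comp_assoc_of_third_deg_zero,
      Ext.mk₀_comp_mk₀, ShortComplex.ShortExact.extClass_comp_assoc] at h5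
    rw [← Ext.comp_assoc_of_third_deg_zero, hw, Ext.comp_assoc_of_second_deg_zero,
      Ext.mk₀_comp_mk₀] at h5
    rw [Functor.map_comp, Functor.map_comp]
    exact h5

end Groth.Agent.CohColim
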