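import Groth.Agent.CohColim.Acyclic

/-!
# Admissible classes: coherent objects and quasi-compact classes
-/

set_option linter.style.haveILetI false
set_option backward.isDefEq.respectTransparency false
set_option backward.isDefEq.respectTransparency.types false

universe u

open CategoryTheory CategoryTheory.Limits Opposite

noncomputable section

namespace Groth.Agent.CohColim

open Groth.Agent.ToposFinLib ToposFin

variable {C : Type u} [SmallCategory C] {J : GrothendieckTopology C}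

theorem cov_single {X Y : Sh J} (f : X ⟶ Y) [Epi f] : Cov (fun _ : PUnit.{u + 1} => f) :=
  fun _ _ _ e => (cancel_epi f).1 (e ⟨⟩)

theorem epi_of_cov {X Y : Sh J} {f : X ⟶ Y} (h : Cov (fun _ : PUnit.{u + 1} => f)) : Epi f :=
  ⟨fun a b e => h _ a b fun _ => e⟩

theorem epi_fst_of_epi {X Y Z : Sh J} (g : Y ⟶ X) (f : Z ⟶ X) [Epi f] : Epi (pullback.fst g f) :=
  epi_of_cov (cov_pullback' (cov_single f) g)

/-- Coherent objects such that morphisms to them from quasi-separated objects are quasi-separated. -/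
def Good (X : Sh J) : Prop :=
  IsCoherent X ∧ ∀ (W : Sh J) (g : W ⟶ X), IsQS W → IsQSHom g

theorem good_of_mem {S : Set (Sh J)} (hqc : ∀ K ∈ S, IsQC K) (hgen : IsGenerating S)
    (hpb : ClosedUnderPullbacks S) {K : Sh J} (hK : K ∈ S) : Good K :=
  ⟨isCoherent_of_mem hqc hgen hpb hK, fun _ g hW => isQSHom_to_mem hqc hgen hpb g hK hW⟩

theorem good_of_isAlgebraic (hE : IsAlgebraic J) {K : Sh J} (hK : IsCoherent K) : Good K :=
  ⟨hK, fun _ g hW => isQSHom_of_isAlgebraic hE g hW⟩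

theorem good_of_iso {K K' : Sh J} (e : K ≅ K') (h : Good K) : Good K' :=
  ⟨isCoherent_of_iso e h.1, fun W g hW => by
    have := h.2 W (g ≫ e.inv) hW
    exact isQSHom_of_comp this⟩

theorem good_pullback {K L M : Sh J} (a : K ⟶ M) (b : L ⟶ M) (hK : Good K) (hL : Good L)
    (hM : Good M) : Good (pullback a b) := by
  have hb : IsQSHom b := hM.2 L b hL.1.2
  have hfst : IsQSHom (pullback.fst a b) :=
    isQSHom_of_isPullback (IsPullback.of_hasPullback a b).flip hb
  refine ⟨⟨hM.1.2 _ _ a b hK.1.1 hL.1.1, isQS_of_isQSHom hfst hK.1.2⟩, fun W g hW => ?_⟩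
  exact isQSHom_of_comp (hK.2 W (g ≫ pullback.fst a b) hW)

theorem good_sigma (hE : HasQCGenerators J) {κ : Type u} [Finite κ] (F : κ → Sh J)
    (h : ∀ k, Good (F k)) : Good (∐ F) := by
  refine ⟨isCoherent_sigma F fun k => (h k).1, fun W g hW => ?_⟩
  refine isQSHom_of_cov hE g (cov_sigma_ι F) fun k => ?_
  haveI : Mono (Sigma.ι F k) := mono_inj (c := Cofan.mk _ (Sigma.ι F)) (coproductIsCoproduct F) k
  exact (h k).2 _ _ (isQS_of_mono (pullback.fst g (Sigma.ι F k)) hW)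

/-- In a locally coherent topos the good objects form an admissible class. -/
theorem adm_good {S : Set (Sh J)} (hqc : ∀ K ∈ S, IsQC K) (hgen : IsGenerating S)
    (hpb : ClosedUnderPullbacks S) : Adm (Good (J := J)) where
  qc _ h := h.1.1
  of_iso := good_of_iso
  pullback_mem := good_pullback
  refine_epi {F K} g hK _ := by
    classical
    obtain ⟨ι, G, π, hG, hπ⟩ := gen_of_isGenerating hgen F
    obtain ⟨s, hs⟩ := IsQC.exists_finset hK.1.1 (cov_comp_post hπ g)
    refine ⟨_, Sigma.desc fun a : s => π a.1,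
      good_sigma (hasQC_of_isGenerating hqc hgen) (fun a : s => G a.1)
        fun a => good_of_mem hqc hgen hpb (hG a.1), ?_⟩
    rw [show Sigma.desc (fun a : s => π a.1) ≫ g = Sigma.desc (fun a : s => π a.1 ≫ g) from
      Sigma.hom_ext _ _ fun a => by simp]
    exact (cov_iff_epi _).1 hs

theorem adm_coherent (hE : IsAlgebraic J) : Adm (Good (J := J)) :=
  let ⟨_, hqc, hgen, hpb, _⟩ := hE
  adm_good hqc hgen hpb

/-! ### The class attached to a quasi-compact class closed up to covers -/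

/-- Covered by a member of `S`. -/
def CoveredBy (S : Set (Sh J)) (X : Sh J) : Prop := ∃ (K : Sh J) (k : K ⟶ X), K ∈ S ∧ Epi k

theorem CoveredBy.of_epi {S : Set (Sh J)} {X Y : Sh J} (h : CoveredBy S X) (f : X ⟶ Y) [Epi f] :
    CoveredBy S Y :=
  let ⟨K, k, hK, _⟩ := h; ⟨K, k ≫ f, hK, epi_comp _ _⟩

/-- Covered objects with covered equalizers. -/
def CoveredEq (S : Set (Sh J)) (X : Sh J) : Prop :=
  CoveredBy S X ∧ ∀ (M : Sh J) (a b : M ⟶ X), M ∈ S → CoveredBy S (equalizer a b)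

theorem coveredBy_pullback {S : Set (Sh J)}
    (h3 : ∀ K ∈ S, ∀ K' ∈ S, ∃ (K'' : Sh J) (g : K'' ⟶ K ⨯ K'), K'' ∈ S ∧ Epi g)
    {K L M : Sh J} (a : K ⟶ M) (b : L ⟶ M) (hK : CoveredBy S K) (hL : CoveredBy S L)
    (hM : CoveredEq S M) : CoveredBy S (pullback a b) := by
  obtain ⟨K₀, k, hK₀, _⟩ := hK
  obtain ⟨L₀, l, hL₀, _⟩ := hL
  obtain ⟨R, r, hR, _⟩ := h3 K₀ hK₀ L₀ hL₀
  let x := r ≫ prod.fst ≫ k ≫ a
  let y := r ≫ prod.snd ≫ l ≫ b
  obtain ⟨E, e, hE, _⟩ := hM.2 R x y hR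
  let toP : equalizer x y ⟶ pullback a b := pullback.lift
    (equalizer.ι x y ≫ r ≫ prod.fst ≫ k) (equalizer.ι x y ≫ r ≫ prod.snd ≫ l)
    (by simpa [x, y] using equalizer.condition x y)
  haveI : Epi toP := by
    let A := pullback (pullback.fst a b) k
    let f₁ : A ⟶ pullback a b := pullback.fst (pullback.fst a b) k
    haveI : Epi f₁ := epi_fst_of_epi _ _
    let B := pullback (f₁ ≫ pullback.snd a b) l
    let f₂ : B ⟶ A := pullback.fst (f₁ ≫ pullback.snd a b) l
    haveI : Epi f₂ := epi_fst_of_epi _ _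
    let q : B ⟶ K₀ ⨯ L₀ := prod.lift (f₂ ≫ pullback.snd _ k) (pullback.snd _ l)
    let f₃ : pullback q r ⟶ B := pullback.fst q r
    haveI : Epi f₃ := epi_fst_of_epi _ _
    have hk : f₂ ≫ pullback.snd (pullback.fst a b) k ≫ k = f₂ ≫ f₁ ≫ pullback.fst a b := by
      rw [← pullback.condition]
    have hl : pullback.snd (f₁ ≫ pullback.snd a b) l ≫ l = f₂ ≫ f₁ ≫ pullback.snd a b := by
      rw [← pullback.condition]
    have hq : pullback.snd q r ≫ r = f₃ ≫ q := pullback.condition.symm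
    let d : pullback q r ⟶ equalizer x y := equalizer.lift (pullback.snd q r) (by
      simp only [x, y, reassoc_of% hq, q, prod.lift_fst_assoc, prod.lift_snd_assoc,
        Category.assoc, reassoc_of% hk, reassoc_of% hl, pullback.condition])
    have hd : d ≫ toP = f₃ ≫ f₂ ≫ f₁ := by
      apply pullback.hom_ext
      · simp only [d, toP, Category.assoc, pullback.lift_fst, equalizer.lift_ι_assoc,
          reassoc_of% hq, q, prod.lift_fst_assoc, hk]
      · simp only [d, toP, Category.assoc, pullback.lift_snd, equalizer.lift_ι_assoc,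
          reassoc_of% hq, q, prod.lift_snd_assoc, hl]
    exact epi_of_epi_fac hd
  exact ⟨E, e ≫ toP, hE, epi_comp _ _⟩

theorem coveredEq_pullback {S : Set (Sh J)}
    (h3 : ∀ K ∈ S, ∀ K' ∈ S, ∃ (K'' : Sh J) (g : K'' ⟶ K ⨯ K'), K'' ∈ S ∧ Epi g)
    {K L M : Sh J} (a : K ⟶ M) (b : L ⟶ M) (hK : CoveredEq S K) (hL : CoveredEq S L)
    (hM : CoveredEq S M) : CoveredEq S (pullback a b) := by
  refine ⟨coveredBy_pullback h3 a b hK.1 hL.1 hM, fun N c d hN => ?_⟩
  obtain ⟨M₁, e₁, hM₁, _⟩ := hK.2 N (c ≫ pullback.fst a b) (d ≫ pullback.fst a b) hN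
  let i₁ := e₁ ≫ equalizer.ι (c ≫ pullback.fst a b) (d ≫ pullback.fst a b)
  let x := i₁ ≫ c ≫ pullback.snd a b
  let y := i₁ ≫ d ≫ pullback.snd a b
  let toE : equalizer x y ⟶ equalizer c d := equalizer.lift (equalizer.ι x y ≫ i₁) (by
    apply pullback.hom_ext
    · simp only [i₁, Category.assoc]
      rw [equalizer.condition]
    · simpa [x, y] using equalizer.condition x y)
  haveI : Epi toE := by
    let m : equalizer c d ⟶ equalizer (c ≫ pullback.fst a b) (d ≫ pullback.fst a b) :=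
      equalizer.lift (equalizer.ι c d) (by rw [equalizer.condition_assoc])
    let f₁ : pullback m e₁ ⟶ equalizer c d := pullback.fst m e₁
    haveI : Epi f₁ := epi_fst_of_epi _ _
    have hi : pullback.snd m e₁ ≫ i₁ = f₁ ≫ equalizer.ι c d := by
      simp only [i₁, f₁, ← pullback.condition_assoc, m, equalizer.lift_ι]
    let δ : pullback m e₁ ⟶ equalizer x y := equalizer.lift (pullback.snd m e₁) (by
      simp only [x, y, reassoc_of% hi]
      rw [equalizer.condition_assoc])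
    have hδ : δ ≫ toE = f₁ := by
      apply equalizer.hom_ext
      simp only [δ, toE, Category.assoc, equalizer.lift_ι, equalizer.lift_ι_assoc, hi]
    exact epi_of_epi_fac hδ
  exact (hL.2 M₁ x y hM₁).of_epi toE

theorem coveredEq_of_iso {S : Set (Sh J)} {X Y : Sh J} (e : X ≅ Y) (h : CoveredEq S X) :
    CoveredEq S Y := by
  refine ⟨h.1.of_epi e.hom, fun N c d hN => ?_⟩
  have h₁ := h.2 N (c ≫ e.inv) (d ≫ e.inv) hN
  let g : equalizer (c ≫ e.inv) (d ≫ e.inv) ⟶ equalizer c d :=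
    equalizer.lift (equalizer.ι _ _) (by
      rw [← cancel_mono e.inv]; simpa using equalizer.condition (c ≫ e.inv) (d ≫ e.inv))
  let g' : equalizer c d ⟶ equalizer (c ≫ e.inv) (d ≫ e.inv) :=
    equalizer.lift (equalizer.ι c d) (by rw [equalizer.condition_assoc])
  haveI : Epi g := by
    haveI : Epi (g' ≫ g) := by
      have : g' ≫ g = 𝟙 _ := by apply equalizer.hom_ext; simp [g, g']
      rw [this]; infer_instance
    exact epi_of_epi g' g
  exact h₁.of_epi g

theorem coveredEq_of_mem {S : Set (Sh J)}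
    (h4 : ∀ K ∈ S, ∀ K' ∈ S, ∀ (a b : K ⟶ K'),
      ∃ (K'' : Sh J) (g : K'' ⟶ equalizer a b), K'' ∈ S ∧ Epi g)
    {K : Sh J} (hK : K ∈ S) : CoveredEq S K :=
  ⟨⟨K, 𝟙 K, hK, inferInstance⟩, fun N a b hN => h4 N hN K hK a b⟩

theorem coveredEq_terminal {S : Set (Sh J)} (h1 : ∃ K ∈ S, Epi (terminal.from K)) :
    CoveredEq S (⊤_ (Sh J)) := by
  obtain ⟨K, hK, hK'⟩ := h1
  refine ⟨⟨K, terminal.from K, hK, hK'⟩, fun N a b hN => ?_⟩
  obtain rfl : a = b := terminal.hom_ext a b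
  exact ⟨N, equalizer.lift (𝟙 N) rfl, hN,
    ⟨fun p q e => by
      have h : equalizer.ι a a ≫ equalizer.lift (𝟙 N) rfl = 𝟙 _ :=
        equalizer.hom_ext (by simp)
      simpa [reassoc_of% h] using congrArg (equalizer.ι a a ≫ ·) e⟩⟩

theorem isQC_of_isQcObject {K : Sh J} (h : CohCx.IsQcObject K) : IsQC K := by
  rw [isQC_iff]
  intro ι F π hπ
  have key : ∀ (U : C) (x : K.obj.obj (op U)), ∃ S ∈ J U, ∀ (V : C) (g : V ⟶ U), S g →
      ∃ (i : ι) (y : (F i).obj.obj (op V)), (π i).hom.app (op V) y = K.obj.map g.op x :=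
    fun U x => ⟨imgSieve π x, local_of_cov hπ U x, fun V g hg => hg⟩
  obtain ⟨t, ht⟩ := h ι F π key
  refine ⟨t, cov_of_local _ fun U x => ?_⟩
  obtain ⟨R, hR, hRi⟩ := ht U x
  exact J.superset_covering (fun V g hg => hRi V g hg) hR

theorem adm_coveredEq {S : Set (Sh J)}
    (h2 : ∀ (F : Sh J) (K : Sh J) (g : F ⟶ K), K ∈ S → Epi g →
      ∃ (K' : Sh J) (k : K' ⟶ F), K' ∈ S ∧ Epi (k ≫ g))
    (h3 : ∀ K ∈ S, ∀ K' ∈ S, ∃ (K'' : Sh J) (g : K'' ⟶ K ⨯ K'), K'' ∈ S ∧ Epi g)
    (h4 : ∀ K ∈ S, ∀ K' ∈ S, ∀ (a b : K ⟶ K'),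
      ∃ (K'' : Sh J) (g : K'' ⟶ equalizer a b), K'' ∈ S ∧ Epi g)
    (h5 : ∀ K ∈ S, CohCx.IsQcObject K) : Adm (CoveredEq S) where
  qc X h := by
    obtain ⟨K, k, hK, _⟩ := h.1
    exact isQC_of_epi k (isQC_of_isQcObject (h5 K hK))
  of_iso := coveredEq_of_iso
  pullback_mem := coveredEq_pullback h3
  refine_epi {F X} g hX hg := by
    obtain ⟨K, k, hK, _⟩ := hX.1
    haveI := hg
    haveI : Epi (pullback.fst k g) := epi_fst_of_epi _ _
    obtain ⟨K', m, hK', hm⟩ := h2 _ K (pullback.fst k g) hK inferInstance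
    refine ⟨K', m ≫ pullback.snd k g, coveredEq_of_mem h4 hK', ?_⟩
    haveI := hm
    rw [Category.assoc, ← pullback.condition, ← Category.assoc]
    exact epi_comp _ _

end Groth.Agent.CohColim
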