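import Mathlib
import Groth.Prelude
import Groth.Agent.CohColim.Classes
import Groth.Agent.SiteBase.OpenQuot
import Groth.Agent.SiteBase.RpushNat

/-!
# Cohomology functors commuting with filtered colimits
-/

universe u

namespace Groth.Agent.CohColim

open CategoryTheory Limits Opposite CategoryTheory.Abelian

noncomputable section

variable {C : Type u} [SmallCategory C] {J : GrothendieckTopology C}
  (Λ : Type u) [SmallCategory Λ] [IsFiltered Λ]

/-- Global cohomology commutes with filtered colimits, once the final object is admissible. -/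
theorem preserves_functorH {T : ToposFin.Sh J → Prop} (hT : Adm T)
    (h : T (⊤_ (ToposFin.Sh J))) (q : ℕ) :
    PreservesColimitsOfShape Λ
      (Sheaf.functorH J q : Sheaf J AddCommGrpCat.{u} ⥤ AddCommGrpCat.{u}) := by
  have h1 : ExtColim Λ ((constantSheaf J AddCommGrpCat.{u}).obj (AddCommGrpCat.of (ULift.{u} ℤ)))
      q :=
    (extColim_adm hT (hT.of_iso (terminalIsTerminal.uniqueUpToIso (SiteBase.OpenQuot.isTerminalPt J)) h)
      q).of_iso Λ (SiteBase.freePtIso J)
  have := h1.preserves
  exact preservesColimitsOfShape_of_natIso (NatIso.ofComponents (fun F => Iso.refl _)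
    (fun f => by ext x; rfl) :
    (extFunctor.{u} q).obj (op ((constantSheaf J AddCommGrpCat.{u}).obj
      (AddCommGrpCat.of (ULift.{u} ℤ)))) ≅ Sheaf.functorH J q)

/-- Cohomology of an admissible object commutes with filtered colimits. -/
theorem preserves_HKFunctor {T : ToposFin.Sh J → Prop} (hT : Adm T) {K : ToposFin.Sh J}
    (hK : T K) (q : ℕ) : PreservesColimitsOfShape Λ (ToposFin.HKFunctor K q) :=
  (extColim_adm (Λ := Λ) hT hK q).preserves

/-- Sections of the cohomology presheaves commute with colimits on admissible representables. -/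
theorem preserves_cohomologyPresheaf {T : ToposFin.Sh J → Prop} (hT : Adm T) (U : C)
    (hU : T (SiteBase.shYoneda J U)) (q : ℕ) :
    PreservesColimitsOfShape Λ ((Sheaf.cohomologyPresheafFunctor J q).flip.obj (op U)) :=
  ((extColim_adm (Λ := Λ) hT hU q).of_iso Λ (SiteBase.freeShYonedaIso U)).preserves

variable {D : Type u} [SmallCategory D] (K : GrothendieckTopology D) (u : D ⥤ C)
  [u.IsContinuous K J]

/-- Higher direct images commute with filtered colimits. -/
theorem preserves_Rpush (q : ℕ)
    (h : ∀ V : D, PreservesColimitsOfShape Λ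
      ((Sheaf.cohomologyPresheafFunctor J q).flip.obj (op (u.obj V)))) :
    PreservesColimitsOfShape Λ (CohSite.Rpush J K u q) := by
  have : PreservesColimitsOfShape Λ (Sheaf.cohomologyPresheafFunctor J q ⋙
      (Functor.whiskeringLeft _ _ AddCommGrpCat.{u}).obj u.op) :=
    preservesColimitsOfShape_of_evaluation _ Λ fun V => h V.unop
  have : PreservesColimitsOfShape Λ (presheafToSheaf K AddCommGrpCat.{u}) :=
    (sheafificationAdjunction K AddCommGrpCat.{u}).leftAdjoint_preservesColimits.preservesColimitsOfShape
  exact preservesColimitsOfShape_of_natIso (Functor.associator _ _ _ ≪≫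
    (SiteBase.rpushNatIso J K u q).symm)

end

end Groth.Agent.CohColim
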