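import Groth.Agent.CohColim.Classes

/-!
# Sites with fibre products and quasi-compact objects
-/

set_option linter.style.haveILetI false
set_option backward.isDefEq.respectTransparency false
set_option backward.isDefEq.respectTransparency.types false

universe u

open CategoryTheory CategoryTheory.Limits Opposite

noncomputable section

namespace Groth.Agent.CohColim

open Groth.Agent.ToposFinLib ToposFin

variable {C : Type u} [SmallCategory C] {J : GrothendieckTopology C} [HasPullbacks C]
  (hC : ∀ X : C, IsQCSite J X)

include hC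

theorem good_eps (X : C) : Good (eps J X) :=
  ⟨isCoherent_eps hC X, fun _ g hW => isQSHom_to_eps hC g hW⟩

theorem adm_site : Adm (Good (J := J)) where
  qc _ h := h.1.1
  of_iso := good_of_iso
  pullback_mem := good_pullback
  refine_epi {F K} g hK _ := by
    classical
    obtain ⟨ι, U, π, hπ⟩ := cov_eps F
    obtain ⟨s, hs⟩ := IsQC.exists_finset hK.1.1 (cov_comp_post hπ g)
    refine ⟨_, Sigma.desc fun a : s => π a.1,
      good_sigma (hasQCGenerators_of_gen (P := fun A => ∃ U, A = eps J U)
        (fun _ ⟨_, e⟩ => e ▸ isQC_eps (hC _)) gen_eps) (fun a : s => eps J (U a.1))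
        fun a => good_eps hC _, ?_⟩
    rw [show Sigma.desc (fun a : s => π a.1) ≫ g = Sigma.desc (fun a : s => π a.1 ≫ g) from
      Sigma.hom_ext _ _ fun a => by simp]
    exact (cov_iff_epi _).1 hs

/-- The final object is good if the site has a final object. -/
theorem good_terminal {T : C} (hT : IsTerminal T) : Good (⊤_ (Sh J)) := by
  haveI : PreservesFiniteLimits (presheafToSheaf J (Type u)) := inferInstance
  exact good_of_iso ((IsTerminal.isTerminalObj (presheafToSheaf J (Type u)) _
    (IsTerminal.isTerminalObj yoneda T hT)).uniqueUpToIso terminalIsTerminal) (good_eps hC T)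

/-- The final object is good if it is covered by an object `U` such that `U × U` exists in the
site. -/
theorem good_terminal_of_cover {U P : C} (p₁ p₂ : P ⟶ U) (hP : IsLimit (BinaryFan.mk p₁ p₂))
    [Epi (terminal.from (eps J U))] : Good (⊤_ (Sh J)) := by
  let F : C ⥤ Sh J := yoneda ⋙ presheafToSheaf J (Type u)
  let t : eps J U ⟶ ⊤_ (Sh J) := terminal.from _
  let hP' : IsLimit (BinaryFan.mk (F.map p₁) (F.map p₂)) :=
    mapIsLimitOfPreservesOfIsLimit F p₁ p₂ hP
  let e : eps J P ≅ pullback t t :=
    hP'.conePointUniqueUpToIso (isProductOfIsTerminalIsPullback t t _ _ terminalIsTerminal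
      (pullbackIsPullback t t))
  have hE : HasQCGenerators J := hasQCGenerators_of_gen (P := fun A => ∃ U, A = eps J U)
    (fun _ ⟨_, e⟩ => e ▸ isQC_eps (hC _)) gen_eps
  have hU := isCoherent_eps hC U
  have hUU : IsCoherent (pullback t t) := isCoherent_of_iso e (isCoherent_eps hC P)
  have hcov : Cov (fun _ : PUnit.{u + 1} => t) := cov_single t
  have hqc : IsQCHom t :=
    isQCHom_of_cov hE t hcov fun _ => isQCHom_of_isQS _ hUU.1 hU.2
  have hqs : IsQSHom t :=
    isQSHom_of_cov hE t hcov fun _ => isQSHom_to_eps hC _ hUU.2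
  refine ⟨⟨isQC_of_epi t hU.1, isQS_of_cov hcov (fun _ => hU.2) fun _ => hqc⟩, fun W g hW => ?_⟩
  exact isQSHom_of_cov hE g hcov fun _ => isQSHom_to_eps hC _
    (isQS_of_isQSHom (isQSHom_of_isPullback (IsPullback.of_hasPullback g t).flip hqs) hW)

end Groth.Agent.CohColim
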