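import Mathlib
import Groth.Prelude
import Groth.Agent.CohColim.Site
import Groth.Agent.CohColim.Functors
import Groth.Agent.S5616

/-!
# Transfer of continuity of cohomology to a small dense subsite
-/

set_option linter.style.haveILetI false

universe w v u v' u' w' w''

namespace Groth.Agent.CohColim

open CategoryTheory Limits Opposite CategoryTheory.Abelian

noncomputable section

theorem bijective_mapExt_of_isEquivalence {A : Type u} [Category.{v} A] [Abelian A] [HasExt.{w'} A]
    {B : Type u'} [Category.{v'} B] [Abelian B] [HasExt.{w''} B] (φ : A ⥤ B) [φ.Additive]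
    [φ.IsEquivalence] (L M : A) (n : ℕ) :
    Function.Bijective (fun f : Ext.{w'} L M n => Ext.mapExactFunctor φ f) := by
  refine (S5616.result φ M).2 ⟨fun L => ⟨φ.map_injective, φ.map_surjective⟩, fun L n hn x => ?_⟩ L n
  obtain ⟨m, rfl⟩ : ∃ m, n = m + 1 := ⟨n - 1, by omega⟩
  obtain ⟨L'', q, hq, hqx⟩ := ExtEffaceLib.exists_epi_comp_eq_zero x
  let p := φ.preimage ((φ.objObjPreimageIso L'').hom ≫ q)
  have hp : φ.map p = (φ.objObjPreimageIso L'').hom ≫ q := φ.map_preimage _
  have : Epi (φ.map p) := by rw [hp]; haveI := hq; infer_instance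
  refine ⟨_, p, φ.epi_of_epi_map this, ?_⟩
  rw [hp, ← Ext.mk₀_comp_mk₀,
    Ext.comp_assoc _ _ x (add_zero 0) (zero_add _) (by omega), hqx, Ext.comp_zero]

theorem extColim_of_isEquivalence {Λ : Type w} [SmallCategory Λ] [IsFiltered Λ]
    {A : Type u} [Category.{w} A] [Abelian A] [IsGrothendieckAbelian.{w} A] [HasExt.{w} A]
    {B : Type u'} [Category.{w} B] [Abelian B] [IsGrothendieckAbelian.{w} B] [HasExt.{w} B]
    (φ : A ⥤ B) [φ.Additive] [φ.IsEquivalence] {P : A} {q : ℕ} (h : ExtColim Λ (φ.obj P) q) :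
    ExtColim Λ P q := by
  intro D
  let e := preservesColimitIso φ D
  have hι : ∀ i, colimit.ι (D ⋙ φ) i ≫ e.inv = φ.map (colimit.ι D i) := fun i =>
    ι_preservesColimitIso_inv φ D i
  refine ⟨fun x => ?_, fun i y hy => ?_⟩
  · obtain ⟨i, y, hy⟩ := (h (D ⋙ φ)).1
      ((x.mapExactFunctor φ).comp (Ext.mk₀ e.hom) (add_zero q))
    obtain ⟨y', rfl⟩ := (bijective_mapExt_of_isEquivalence φ P (D.obj i) q).2 y
    refine ⟨i, y', (bijective_mapExt_of_isEquivalence φ _ _ _).1 ?_⟩
    show Ext.mapExactFunctor φ (y'.comp _ _) = _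
    rw [Ext.mapExactFunctor_comp, Ext.mapExactFunctor_mk₀, ← hι, ← Ext.mk₀_comp_mk₀,
      ← Ext.comp_assoc_of_second_deg_zero, hy, Ext.comp_assoc_of_second_deg_zero,
      Ext.mk₀_comp_mk₀, e.hom_inv_id, Ext.comp_mk₀_id]
  · obtain ⟨j, f, hf⟩ := (h (D ⋙ φ)).2 i (y.mapExactFunctor φ) (by
      have h1 : colimit.ι (D ⋙ φ) i = φ.map (colimit.ι D i) ≫ e.hom := by
        rw [← hι, Category.assoc, e.inv_hom_id, Category.comp_id]
      rw [h1, ← Ext.mk₀_comp_mk₀, ← Ext.comp_assoc_of_second_deg_zero,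
        ← Ext.mapExactFunctor_mk₀, ← Ext.mapExactFunctor_comp, hy, Ext.mapExactFunctor_zero,
        Ext.zero_comp])
    refine ⟨j, f, (bijective_mapExt_of_isEquivalence φ _ _ _).1 ?_⟩
    show Ext.mapExactFunctor φ (y.comp _ _) = Ext.mapExactFunctor φ 0
    rw [Ext.mapExactFunctor_comp, Ext.mapExactFunctor_mk₀, Ext.mapExactFunctor_zero]
    exact hf

/-- Global cohomology commutes with filtered colimits on a site with a small dense subsite having
fibre products and quasi-compact objects, whose final sheaf is coherent. -/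
theorem preserves_functorH_dense' {C : Type w} [SmallCategory C] {J : GrothendieckTopology C}
    {E : Type w} [Category.{v} E] (K : GrothendieckTopology E) (G : C ⥤ E) [G.IsDenseSubsite J K]
    [∀ X : Eᵒᵖ, HasLimitsOfShape (StructuredArrow X G.op) AddCommGrpCat.{w}]
    [HasPullbacks C] (hC : ∀ X : C, ToposFin.IsQCSite J X) (hG : Good (⊤_ (ToposFin.Sh J)))
    [HasSheafify K AddCommGrpCat.{w}]
    [IsGrothendieckAbelian.{w} (Sheaf K AddCommGrpCat.{w})]
    [HasExt.{w} (Sheaf K AddCommGrpCat.{w})]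
    (Λ : Type w) [SmallCategory Λ] [IsFiltered Λ] (q : ℕ) :
    PreservesColimitsOfShape Λ
      (Sheaf.functorH K q : Sheaf K AddCommGrpCat.{w} ⥤ AddCommGrpCat.{w}) := by
  let e := Functor.IsDenseSubsite.sheafEquiv J K G AddCommGrpCat.{w}
  haveI : PreservesBinaryBiproducts e.inverse :=
    preservesBinaryBiproducts_of_preservesBinaryProducts _
  haveI : e.inverse.Additive := Functor.additive_of_preservesBinaryBiproducts _
  let Z := AddCommGrpCat.of (ULift.{w} ℤ)
  have h0 : ExtColim Λ ((constantSheaf J AddCommGrpCat.{w}).obj Z) q :=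
    (extColim_adm (adm_site hC) ((adm_site hC).of_iso
      (terminalIsTerminal.uniqueUpToIso (SiteBase.OpenQuot.isTerminalPt J)) hG) q).of_iso Λ
      (SiteBase.freePtIso J)
  let i₁ : (constantSheaf J AddCommGrpCat.{w}).obj Z ≅
      e.inverse.obj ((constantSheaf K AddCommGrpCat.{w}).obj Z) :=
    (presheafToSheaf J AddCommGrpCat.{w}).mapIso
        (NatIso.ofComponents (fun _ => Iso.refl _) :
          (Functor.const Cᵒᵖ).obj Z ≅ G.op ⋙ (Functor.const Eᵒᵖ).obj Z) ≪≫
      (Functor.IsDenseSubsite.sheafEquivSheafificationCompatibility J K G AddCommGrpCat.{w}).app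
        ((Functor.const Eᵒᵖ).obj Z)
  have h1 : ExtColim Λ ((constantSheaf K AddCommGrpCat.{w}).obj Z) q :=
    extColim_of_isEquivalence e.inverse (h0.of_iso Λ i₁)
  have := h1.preserves
  exact preservesColimitsOfShape_of_natIso (NatIso.ofComponents (fun F => Iso.refl _)
    (fun f => by ext x; rfl) :
    (extFunctor.{w} q).obj (op ((constantSheaf K AddCommGrpCat.{w}).obj
      (AddCommGrpCat.of (ULift.{w} ℤ)))) ≅ Sheaf.functorH K q)

/-- Global cohomology commutes with filtered colimits on a site with a small dense subsite having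
fibre products, a final object and quasi-compact objects. -/
theorem preserves_functorH_dense {C : Type w} [SmallCategory C] {J : GrothendieckTopology C}
    {E : Type w} [Category.{v} E] (K : GrothendieckTopology E) (G : C ⥤ E) [G.IsDenseSubsite J K]
    [∀ X : Eᵒᵖ, HasLimitsOfShape (StructuredArrow X G.op) AddCommGrpCat.{w}]
    [HasPullbacks C] (hC : ∀ X : C, ToposFin.IsQCSite J X) {T : C} (hT : IsTerminal T)
    (hT' : IsTerminal (G.obj T)) [HasSheafify K AddCommGrpCat.{w}]
    [IsGrothendieckAbelian.{w} (Sheaf K AddCommGrpCat.{w})]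
    [HasExt.{w} (Sheaf K AddCommGrpCat.{w})]
    (Λ : Type w) [SmallCategory Λ] [IsFiltered Λ] (q : ℕ) :
    PreservesColimitsOfShape Λ
      (Sheaf.functorH K q : Sheaf K AddCommGrpCat.{w} ⥤ AddCommGrpCat.{w}) := by
  let e := Functor.IsDenseSubsite.sheafEquiv J K G AddCommGrpCat.{w}
  haveI : PreservesBinaryBiproducts e.inverse :=
    preservesBinaryBiproducts_of_preservesBinaryProducts _
  haveI : e.inverse.Additive := Functor.additive_of_preservesBinaryBiproducts _
  have h0 : ExtColim Λ ((constantSheaf J AddCommGrpCat.{w}).obj (AddCommGrpCat.of (ULift.{w} ℤ)))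
      q :=
    (extColim_adm (adm_site hC) ((adm_site hC).of_iso
      (terminalIsTerminal.uniqueUpToIso (SiteBase.OpenQuot.isTerminalPt J))
      (good_terminal hC hT)) q).of_iso Λ (SiteBase.freePtIso J)
  have h1 : ExtColim Λ ((constantSheaf K AddCommGrpCat.{w}).obj (AddCommGrpCat.of (ULift.{w} ℤ)))
      q :=
    extColim_of_isEquivalence e.inverse
      (h0.of_iso Λ ((equivCommuteConstant' J AddCommGrpCat.{w} K G hT hT').app _))
  have := h1.preserves
  exact preservesColimitsOfShape_of_natIso (NatIso.ofComponents (fun F => Iso.refl _)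
    (fun f => by ext x; rfl) :
    (extFunctor.{w} q).obj (op ((constantSheaf K AddCommGrpCat.{w}).obj
      (AddCommGrpCat.of (ULift.{w} ℤ)))) ≅ Sheaf.functorH K q)

end

end Groth.Agent.CohColim
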