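import Mathlib
import Groth.Prelude
import Groth.Agent.CohColim.Transfer

/-!
# The small subsite of quasi-compact quasi-separated étale schemes
-/

set_option linter.style.haveILetI false
set_option backward.isDefEq.respectTransparency false
set_option backward.isDefEq.respectTransparency.types false

universe u

namespace Groth.Agent.CohColim

open CategoryTheory Limits Opposite AlgebraicGeometry MorphismProperty

noncomputable section

variable (X : Scheme.{u})

/-- Quasi-compact and quasi-separated étale schemes. -/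
def qcqsProp : ObjectProperty X.Etale :=
  fun U => CompactSpace U.left ∧ QuasiSeparatedSpace U.left

theorem qcqsProp_pullback {U V W : X.Etale} (f : U ⟶ W) (g : V ⟶ W) (hU : qcqsProp X U)
    (hV : qcqsProp X V) (hW : qcqsProp X W) : qcqsProp X (Limits.pullback f g) := by
  haveI := hU.1; haveI := hU.2; haveI := hV.1; haveI := hV.2; haveI := hW.2
  let F := Scheme.Etale.forget X ⋙ Over.forget X
  let e : (Limits.pullback f g).left ≅ Limits.pullback f.left g.left :=
    PreservesPullback.iso F f g
  haveI : QuasiCompact g.left := inferInstance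
  haveI : QuasiSeparated g.left := inferInstance
  haveI : CompactSpace ↥(Limits.pullback f.left g.left) :=
    QuasiCompact.compactSpace_of_compactSpace (pullback.fst f.left g.left)
  haveI : QuasiSeparatedSpace ↥(Limits.pullback f.left g.left) :=
    quasiSeparatedSpace_of_quasiSeparated (pullback.fst f.left g.left)
  exact ⟨QuasiCompact.compactSpace_of_compactSpace e.hom,
    quasiSeparatedSpace_of_quasiSeparated e.hom⟩

instance : (qcqsProp X).IsClosedUnderIsomorphisms where
  of_iso {U V} e h := by
    haveI := h.1; haveI := h.2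
    haveI : IsIso e.inv.left :=
      inferInstanceAs (IsIso ((Scheme.Etale.forget X ⋙ Over.forget X).map e.inv))
    exact ⟨QuasiCompact.compactSpace_of_compactSpace e.inv.left,
      quasiSeparatedSpace_of_quasiSeparated e.inv.left⟩

/-- The small subsite. -/
abbrev EtQC := ULiftHom.{u + 1} (qcqsProp X).FullSubcategory

/-- The inclusion of the small subsite. -/
abbrev inclQC : EtQC X ⥤ X.Etale := ULiftHom.down ⋙ (qcqsProp X).ι

instance : (ULiftHom.down : EtQC X ⥤ _).IsEquivalence :=
  ULiftHom.equiv.isEquivalence_inverse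

instance : (inclQC X).Full := inferInstance

instance : (inclQC X).Faithful := inferInstance

instance : HasPullbacks (EtQC X) := by
  haveI : (qcqsProp X).IsClosedUnderLimitsOfShape WalkingCospan :=
    .mk' <| by
      rintro U ⟨F, hF⟩
      have : qcqsProp X (Limits.pullback (F.map WalkingCospan.Hom.inl)
          (F.map WalkingCospan.Hom.inr)) :=
        qcqsProp_pullback X _ _ (hF _) (hF _) (hF _)
      exact (qcqsProp X).prop_of_iso (HasLimit.isoOfNatIso (diagramIsoCospan F)).symm this
  haveI : HasLimitsOfShape WalkingCospan (qcqsProp X).FullSubcategory :=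
    hasLimitsOfShape_of_closedUnderLimits _ _
  exact Adjunction.hasLimitsOfShape_of_equivalence (ULiftHom.down : EtQC X ⥤ _)

/-- An arrow of a covering sieve meets every point. -/
theorem exists_mem_of_covering {U : X.Etale} {S : Sieve U}
    (hS : S ∈ X.smallEtaleTopology U) (w : U.left) :
    ∃ (Z : X.Etale) (g : Z ⟶ U), S g ∧ w ∈ Set.range g.left := by
  obtain ⟨𝒰, _, hP, hle⟩ := (Scheme.mem_smallGrothendieckTopology _ _).1 hS
  obtain ⟨i, y, hy⟩ := 𝒰.exists_eq w
  exact ⟨_, _, hle _ _ ⟨i⟩, y, hy⟩

instance isCoverDense_inclQC : (inclQC X).IsCoverDense X.smallEtaleTopology where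
  is_cover U := by
    let 𝒰 := U.left.affineCover
    let Z : 𝒰.I₀ → X.Etale := fun i => Scheme.Etale.mk (𝒰.f i ≫ U.hom)
    let f : ∀ i, Z i ⟶ U := fun i => MorphismProperty.Over.homMk (𝒰.f i) rfl
    refine GrothendieckTopology.superset_covering _ ?_
      ((Scheme.ofArrows_mem_smallEtaleTopology_iff f).2 𝒰.iUnion_range)
    refine (Sieve.generate_le_iff _ _).2 ?_
    rintro _ _ ⟨i⟩
    exact ⟨⟨ULiftHom.objUp ⟨Z i, ⟨inferInstanceAs (CompactSpace ↥(𝒰.X i)),
      inferInstanceAs (QuasiSeparatedSpace ↥(𝒰.X i))⟩⟩, 𝟙 _, f i, Category.id_comp _⟩⟩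

/-- The topology of the small subsite. -/
abbrev topQC : GrothendieckTopology (EtQC X) :=
  (inclQC X).restrictedTopology X.smallEtaleTopology

theorem isQCSite_topQC (U : EtQC X) : ToposFin.IsQCSite (topQC X) U := by
  intro S hS
  rw [Functor.mem_restrictedTopology_iff] at hS
  haveI : CompactSpace ↥((inclQC X).obj U).left := U.objDown.property.1
  have h : ∀ w : ((inclQC X).obj U).left, ∃ (V : EtQC X) (g : V ⟶ U),
      S g ∧ w ∈ Set.range ((inclQC X).map g).left := by
    intro w
    obtain ⟨Z, g, ⟨V, a, b, ha, rfl⟩, y, rfl⟩ := exists_mem_of_covering X hS w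
    exact ⟨V, a, ha, b.left y, rfl⟩
  choose V g hg hw using h
  obtain ⟨t, ht⟩ := isCompact_univ.elim_finite_subcover
    (fun w => Set.range ((inclQC X).map (g w)).left)
    (fun w => ((inclQC X).map (g w)).left.isOpenMap.isOpen_range)
    (fun w _ => Set.mem_iUnion.2 ⟨w, hw w⟩)
  refine ⟨t.card, fun k => V (t.equivFin.symm k), fun k => g _, fun k => hg _, ?_⟩
  rw [Functor.mem_restrictedTopology_iff]
  refine GrothendieckTopology.superset_covering _ (S := Sieve.ofArrows _
    (fun k => (inclQC X).map (g (t.equivFin.symm k)))) ((Sieve.generate_le_iff _ _).2 ?_) ?_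
  · rintro _ _ ⟨k⟩
    exact ⟨_, g (t.equivFin.symm k), 𝟙 _, Sieve.ofArrows_mk _ _ k, (Category.id_comp _).symm⟩
  · refine (Scheme.ofArrows_mem_smallEtaleTopology_iff _).2 (Set.eq_univ_of_forall fun y => ?_)
    obtain ⟨w, hwt, hy⟩ := Set.mem_iUnion₂.1 (ht (Set.mem_univ y))
    exact Set.mem_iUnion.2 ⟨t.equivFin ⟨w, hwt⟩, by rw [Equiv.symm_apply_apply]; exact hy⟩

/-- Étale cohomology of a qcqs scheme commutes with filtered colimits. -/
theorem preserves_HF [CompactSpace X] [QuasiSeparatedSpace X] (n : ℕ) (Λ : Type (u + 1))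
    [SmallCategory Λ] [IsFiltered Λ] : PreservesColimitsOfShape Λ (EtCoh.HF X n) := by
  let T₀ : (qcqsProp X).FullSubcategory :=
    ⟨EtCoh.top X, ⟨inferInstanceAs (CompactSpace X), inferInstanceAs (QuasiSeparatedSpace X)⟩⟩
  have h' : IsTerminal (EtCoh.top X) := MorphismProperty.Over.mkIdTerminal _ X
  have h : IsTerminal (ULiftHom.objUp T₀ : EtQC X) :=
    IsTerminal.isTerminalOfObj (inclQC X) _ h'
  exact preserves_functorH_dense (J := topQC X) X.smallEtaleTopology (inclQC X)
    (isQCSite_topQC X) h h' Λ n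

end

end Groth.Agent.CohColim
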