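import Groth.Agent.CohColim.CompactOpens
import Groth.Agent.CohBase.Affine
import Groth.Agent.QCohLib.Exact
import Groth.Agent.QCohLib.FiniteType
import Groth.Agent.S4812
import Groth.Agent.S9819
import Groth.Agent.FlatBC.Projective

/-!
# Cohomology of quasi-coherent modules as seen by their submodules of finite type
-/

set_option autoImplicit false
set_option backward.isDefEq.respectTransparency false
set_option linter.style.haveILetI false

universe u

open CategoryTheory CategoryTheory.Limits AlgebraicGeometry TopologicalSpace Opposite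

noncomputable section

namespace Groth.Agent.CohColim

variable {X : Scheme.{u}} (G : X.Modules) [Coh.IsQCoh G]

/-- The images of the quasi-coherent submodules of finite type. -/
def IsFTSub (S : Subobject (Coh.toAb G)) : Prop :=
  ∃ (H : X.Modules) (i : H ⟶ G) (_ : Mono i) (_ : Mono ((QCohLib.toAbF X).map i)),
    Coh.IsQCoh H ∧ CohB1.IsFT H ∧ Subobject.mk ((QCohLib.toAbF X).map i) = S

/-- The sum of two submodules of finite type. -/
theorem directed_isFTSub {S T : Subobject (Coh.toAb G)} (hS : IsFTSub G S) (hT : IsFTSub G T) :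
    ∃ U, IsFTSub G U ∧ S ≤ U ∧ T ≤ U := by
  obtain ⟨A, i, hi, hi', hAq, hAf, rfl⟩ := hS
  obtain ⟨B, j, hj, hj', hBq, hBf, rfl⟩ := hT
  let P : X.Modules := A ⊞ B
  haveI := hAq
  haveI := hBq
  haveI hPq : Coh.IsQCoh P :=
    QCohLib.isQCoh_X₂ (S := ShortComplex.mk (biprod.inl : A ⟶ P) biprod.snd biprod.inl_snd)
      (ShortComplex.Splitting.ofHasBinaryBiproduct A B).shortExact hAq hBq
  have hPf : CohB1.IsFT P := by
    refine QCohLib.isFiniteType_of_finite _ (fun W : X.affineOpens => (W : X.Opens))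
      (fun W => W.2) (iSup_affineOpens_eq_top _) fun W => ?_
    haveI := QCohLib.finite_sections A hAf W.2
    haveI := QCohLib.finite_sections B hBf W.2
    let l := (FlatLocus.appL (biprod.inl : A ⟶ P) (W : X.Opens)).coprod
      (FlatLocus.appL (biprod.inr : B ⟶ P) (W : X.Opens))
    refine Module.Finite.of_surjective l fun z =>
      ⟨((biprod.fst : P ⟶ A).app (W : X.Opens) z, (biprod.snd : P ⟶ B).app (W : X.Opens) z), ?_⟩
    exact congrArg (fun g : P ⟶ P => g.app (W : X.Opens) z) biprod.total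
  let f : P ⟶ G := biprod.desc i j
  let H := cokernel (kernel.ι f)
  let h : H ⟶ G := cokernel.desc (kernel.ι f) f (kernel.condition f)
  haveI : Mono h := inferInstanceAs (Mono (Abelian.factorThruCoimage f))
  haveI hHq : Coh.IsQCoh H := by
    haveI := (QCohLib.isQCoh_image f hPq inferInstance).1
    exact (QCohLib.isQCoh_image (kernel.ι f) inferInstance hPq).2
  have hHf : CohB1.IsFT H := S4812.isFT_of_epi hPf (cokernel.π (kernel.ι f))
  haveI : Mono ((QCohLib.toAbF X).map h) := (QCohLib.toAbF X).map_mono h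
  refine ⟨_, ⟨H, h, inferInstance, inferInstance, hHq, hHf, rfl⟩, ?_, ?_⟩
  · refine Subobject.mk_le_mk_of_comm ((QCohLib.toAbF X).map ((biprod.inl : A ⟶ P) ≫ cokernel.π (kernel.ι f))) ?_
    rw [← Functor.map_comp, Category.assoc, cokernel.π_desc, biprod.inl_desc]
  · refine Subobject.mk_le_mk_of_comm ((QCohLib.toAbF X).map ((biprod.inr : B ⟶ P) ≫ cokernel.π (kernel.ι f))) ?_
    rw [← Functor.map_comp, Category.assoc, cokernel.π_desc, biprod.inr_desc]

theorem isFTSub_bot : ∃ S, IsFTSub G S := by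
  haveI hz : Coh.IsQCoh (cokernel (𝟙 G)) :=
    (QCohLib.isQCoh_image (𝟙 G) inferInstance inferInstance).2
  have h0 : IsZero (cokernel (𝟙 G)) := isZero_cokernel_of_epi _
  haveI : Mono (0 : cokernel (𝟙 G) ⟶ G) := ⟨fun a b _ => h0.eq_of_tgt a b⟩
  haveI : Mono ((QCohLib.toAbF X).map (0 : cokernel (𝟙 G) ⟶ G)) := (QCohLib.toAbF X).map_mono _
  refine ⟨_, _, 0, inferInstance, inferInstance, hz, ?_, rfl⟩
  refine QCohLib.isFiniteType_of_finite _ (fun W : X.affineOpens => (W : X.Opens))
    (fun W => W.2) (iSup_affineOpens_eq_top _) fun W => ?_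
  haveI : Subsingleton Γ(cokernel (𝟙 G), (W : X.Opens)) := subsingleton_of_forall_eq 0 fun t =>
    congrArg (fun g => g.app (W : X.Opens) t) (h0.eq_of_src (𝟙 _) 0)
  infer_instance

/-- The index set. -/
def FTIdx : Type u := Shrink.{u} {S : Subobject (Coh.toAb G) // IsFTSub G S}

/-- The submodules as indices. -/
def ftEquiv : FTIdx G ≃ {S : Subobject (Coh.toAb G) // IsFTSub G S} := (equivShrink _).symm

instance : Preorder (FTIdx G) := Preorder.lift (ftEquiv G)

instance : Nonempty (FTIdx G) := by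
  obtain ⟨S, hS⟩ := isFTSub_bot G
  exact ⟨(ftEquiv G).symm ⟨S, hS⟩⟩

instance : IsDirectedOrder (FTIdx G) := ⟨fun a b => by
  obtain ⟨U, hU, h1, h2⟩ := directed_isFTSub G (ftEquiv G a).2 (ftEquiv G b).2
  refine ⟨(ftEquiv G).symm ⟨U, hU⟩, ?_, ?_⟩
  · show ftEquiv G a ≤ ftEquiv G ((ftEquiv G).symm ⟨U, hU⟩)
    rw [Equiv.apply_symm_apply]
    exact h1
  · show ftEquiv G b ≤ ftEquiv G ((ftEquiv G).symm ⟨U, hU⟩)
    rw [Equiv.apply_symm_apply]
    exact h2⟩

/-- The diagram of submodules of finite type. -/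
def ftDiag : FTIdx G ⥤ MonoOver (Coh.toAb G) :=
  Monotone.functor (f := fun a : FTIdx G => (ftEquiv G a).1) (fun _ _ h => h) ⋙
    Subobject.representative

omit G in
/-- Cohomology of a filtered colimit of abelian sheaves vanishes if it does at every stage. -/
theorem subsingleton_HU_colimit [CompactSpace X] [QuasiSeparatedSpace X] {Λ : Type u} [SmallCategory Λ]
    [IsFiltered Λ] (D : Λ ⥤ CohTop.Ab (TopCat.of X)) (κ : Cocone D) (hκ : IsColimit κ) (p : ℕ)
    (h : ∀ a, Subsingleton (CohBase.HU (⊤ : X.Opens) (D.obj a) p)) :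
    Subsingleton (CohBase.HU (⊤ : X.Opens) κ.pt p) := by
  let Φ : CohTop.Ab (TopCat.of X) ⥤ AddCommGrpCat.{u} :=
    (Sheaf.cohomologyPresheafFunctor (Opens.grothendieckTopology X) p).flip.obj (op (⊤ : X.Opens))
  haveI := preserves_cohomology_compactOpen (TopCat.of X) (⊤ : X.Opens) isCompact_univ p Λ
  refine subsingleton_of_forall_eq 0 fun x => ?_
  obtain ⟨a, y, hy⟩ := Concrete.isColimit_exists_rep _ (isColimitOfPreserves Φ hκ) x
  have hy0 : y = 0 := @Subsingleton.elim _ (h a) y 0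
  rw [← hy, hy0]
  exact map_zero _

/-- Cohomology vanishes if it does on the submodules of finite type. -/
theorem subsingleton_HH_of_ft [CompactSpace X] [QuasiSeparatedSpace X] (p : ℕ)
    (h : ∀ (H : X.Modules) (i : H ⟶ G), Mono i → Coh.IsQCoh H → CohB1.IsFT H → Subsingleton (Coh.HH X H p)) :
    Subsingleton (Coh.HH X G p) := by
  let D := ftDiag G ⋙ MonoOver.forget _ ⋙ Over.forget _
  let κ : Cocone D := Cocone.mk (Coh.toAb G)
    { app := fun a => ((ftDiag G).obj a).obj.hom
      naturality := fun a b g => by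
        show _ ≫ ((ftDiag G).obj b).obj.hom = _ ≫ 𝟙 _
        rw [Category.comp_id]
        exact MonoOver.w ((ftDiag G).map g) }
  let f : colimit D ⟶ Coh.toAb G := colimit.desc D κ
  have hmem : ∀ (H : X.Modules) (i : H ⟶ G) (_ : Mono i) (_ : Mono ((QCohLib.toAbF X).map i)),
      Coh.IsQCoh H → CohB1.IsFT H → ∃ (a : FTIdx G) (e : Coh.toAb H ≅ D.obj a),
        e.hom ≫ ((ftDiag G).obj a).obj.hom = (QCohLib.toAbF X).map i := by
    intro H i hi hi' hq hf
    let a : FTIdx G := (ftEquiv G).symm ⟨_, H, i, hi, hi', hq, hf, rfl⟩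
    have ha : (ftEquiv G a).1 = Subobject.mk ((QCohLib.toAbF X).map i) :=
      congrArg Subtype.val (Equiv.apply_symm_apply _ _)
    refine ⟨a, (Subobject.isoOfMkEq _ _ ha.symm), ?_⟩
    exact Subobject.ofMkLE_arrow _
  haveI : Mono f := IsGrothendieckAbelian.mono_of_isColimit_monoOver (ftDiag G) (colimit.isColimit D) f
    fun a => colimit.ι_desc κ a
  haveI : Epi f := by
    refine Preadditive.epi_of_cancel_zero f fun {T} t ht => ?_
    refine FlatBC.eq_zero_of_affine t fun U hU x => ?_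
    obtain ⟨H, i, hi, hq, hf, g, hg⟩ := S9819.result G ⟨U, hU⟩ (CohBase.H0Equiv U (Coh.toAb G) x)
    obtain ⟨a, e, he⟩ := hmem H i hi ((QCohLib.toAbF X).map_mono i) hq hf
    obtain ⟨y, hy⟩ := (CohBase.H0Equiv U (Coh.toAb H)).surjective g
    have hx : CohBase.hmap U ((QCohLib.toAbF X).map i) 0 y = x := by
      apply (CohBase.H0Equiv U (Coh.toAb G)).injective
      rw [CohBase.H0Equiv_hmap, hy]
      exact hg
    have hit : (QCohLib.toAbF X).map i ≫ t = 0 := by
      rw [← he, show ((ftDiag G).obj a).obj.hom = colimit.ι D a ≫ f from (colimit.ι_desc κ a).symm]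
      simp only [Category.assoc, ht, comp_zero]
    rw [← hx, CohBase.hmap_apply, CohBase.hmap_apply, Abelian.Ext.comp_assoc_of_second_deg_zero,
      Abelian.Ext.mk₀_comp_mk₀, hit, Abelian.Ext.mk₀_zero, Abelian.Ext.comp_zero]
  haveI : IsIso f := isIso_of_mono_of_epi f
  have hκ : IsColimit κ := IsColimit.ofIsoColimit (colimit.isColimit D)
    (Cocone.ext (asIso f) fun a => colimit.ι_desc κ a)
  refine CohBase.subsingleton_HH G p (subsingleton_HU_colimit D κ hκ p fun a => ?_)
  obtain ⟨H, i, hi, hi', hq, hf, hS⟩ := (ftEquiv G a).2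
  haveI := h H i hi hq hf
  haveI : Subsingleton (CohBase.HU (⊤ : X.Opens) (Coh.toAb H) p) :=
    (CohBase.HHEquiv H p).symm.toEquiv.subsingleton
  let e : Coh.toAb H ≅ D.obj a := Subobject.isoOfMkEq _ _ hS
  refine ⟨fun y z => ?_⟩
  have he : ∀ z : CohBase.HU (⊤ : X.Opens) (D.obj a) p,
      CohBase.hmap (⊤ : X.Opens) e.hom p (CohBase.hmap (⊤ : X.Opens) e.inv p z) = z := fun z => by
    rw [CohBase.hmap_apply, CohBase.hmap_apply, Abelian.Ext.comp_assoc_of_second_deg_zero,
      Abelian.Ext.mk₀_comp_mk₀, e.inv_hom_id, Abelian.Ext.comp_mk₀_id]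
  rw [← he y, ← he z, Subsingleton.elim (CohBase.hmap (⊤ : X.Opens) e.inv p y) (CohBase.hmap (⊤ : X.Opens) e.inv p z)]

end Groth.Agent.CohColim
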