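import Mathlib
import Groth.Prelude
import Groth.Agent.CohColim.Transfer
import Groth.Agent.ASp.Morph

/-!
# The small étale site of a quasi-compact quasi-separated algebraic space
-/

set_option linter.style.haveILetI false
set_option backward.isDefEq.respectTransparency false
set_option backward.isDefEq.respectTransparency.types false

universe u

namespace Groth.Agent.CohColim

open CategoryTheory Limits Opposite AlgebraicGeometry AlgSp

noncomputable section

variable {S : Scheme.{u}} (X : Sp S)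

/-- Quasi-compact and quasi-separated schemes étale over `X`. -/
def qcqsPropSp : ObjectProperty (EtOver X) :=
  fun E => CompactSpace E.obj.left.left ∧ QuasiSeparatedSpace E.obj.left.left

theorem qcqsPropSp_pullback {U V W : EtOver X} (f : U ⟶ W) (g : V ⟶ W) (hU : qcqsPropSp X U)
    (hV : qcqsPropSp X V) (hW : qcqsPropSp X W) : qcqsPropSp X (Limits.pullback f g) := by
  haveI := hU.1; haveI := hU.2; haveI := hV.1; haveI := hV.2; haveI := hW.2
  let F := EtOver.toScheme X
  let e : F.obj (Limits.pullback f g) ≅ Limits.pullback (F.map f) (F.map g) :=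
    PreservesPullback.iso F f g
  haveI : CompactSpace ↥(F.obj U) := hU.1
  haveI : QuasiSeparatedSpace ↥(F.obj U) := hU.2
  haveI : CompactSpace ↥(F.obj V) := hV.1
  haveI : QuasiSeparatedSpace ↥(F.obj V) := hV.2
  haveI : QuasiSeparatedSpace ↥(F.obj W) := hW.2
  haveI : QuasiCompact (F.map g) := inferInstance
  haveI : QuasiSeparated (F.map g) := inferInstance
  haveI : CompactSpace ↥(Limits.pullback (F.map f) (F.map g)) :=
    QuasiCompact.compactSpace_of_compactSpace (pullback.fst (F.map f) (F.map g))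
  haveI : QuasiSeparatedSpace ↥(Limits.pullback (F.map f) (F.map g)) :=
    quasiSeparatedSpace_of_quasiSeparated (pullback.fst (F.map f) (F.map g))
  exact ⟨QuasiCompact.compactSpace_of_compactSpace e.hom,
    quasiSeparatedSpace_of_quasiSeparated e.hom⟩

instance : (qcqsPropSp X).IsClosedUnderIsomorphisms where
  of_iso {U V} e h := by
    let F := EtOver.toScheme X
    haveI : CompactSpace ↥(F.obj U) := h.1
    haveI : QuasiSeparatedSpace ↥(F.obj U) := h.2
    exact ⟨QuasiCompact.compactSpace_of_compactSpace (F.map e.inv),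
      quasiSeparatedSpace_of_quasiSeparated (F.map e.inv)⟩

/-- The small subsite. -/
abbrev EtSpQC := ULiftHom.{u + 1} (qcqsPropSp X).FullSubcategory

/-- The inclusion of the small subsite. -/
abbrev inclSpQC : EtSpQC X ⥤ EtOver X := ULiftHom.down ⋙ (qcqsPropSp X).ι

instance : (ULiftHom.down : EtSpQC X ⥤ _).IsEquivalence :=
  ULiftHom.equiv.isEquivalence_inverse

instance : HasPullbacks (EtSpQC X) := by
  haveI : (qcqsPropSp X).IsClosedUnderLimitsOfShape WalkingCospan :=
    .mk' <| by
      rintro U ⟨F, hF⟩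
      have : qcqsPropSp X (Limits.pullback (F.map WalkingCospan.Hom.inl)
          (F.map WalkingCospan.Hom.inr)) :=
        qcqsPropSp_pullback X _ _ (hF _) (hF _) (hF _)
      exact (qcqsPropSp X).prop_of_iso (HasLimit.isoOfNatIso (diagramIsoCospan F)).symm this
  haveI : HasLimitsOfShape WalkingCospan (qcqsPropSp X).FullSubcategory :=
    hasLimitsOfShape_of_closedUnderLimits _ _
  exact Adjunction.hasLimitsOfShape_of_equivalence (ULiftHom.down : EtSpQC X ⥤ _)

/-- An arrow of a covering sieve meets every point. -/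
theorem exists_mem_of_coveringSp {U : EtOver X} {R : Sieve U} (hR : R ∈ etTop X U)
    (w : U.obj.left.left) :
    ∃ (Z : EtOver X) (g : Z ⟶ U), R g ∧ w ∈ Set.range g.hom.left.left := by
  obtain ⟨T, hT, hle⟩ :=
    (Precoverage.mem_toGrothendieck_iff_of_isStableUnderComposition (J := etPre X)).1 hR
  obtain ⟨ι, Y, g, rfl⟩ := T.exists_eq_ofArrows
  obtain ⟨i, hi⟩ := (ofArrows_mem_etPre_iff Y g).1 hT w
  exact ⟨_, _, hle _ _ ⟨i⟩, hi⟩

instance isCoverDense_inclSpQC : (inclSpQC X).IsCoverDense (etTop X) where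
  is_cover U := by
    let 𝒰 := U.obj.left.left.affineCover
    let Z₀ : 𝒰.I₀ → Over S := fun i => Over.mk (𝒰.f i ≫ U.obj.left.hom)
    let z : ∀ i, Z₀ i ⟶ U.obj.left := fun i => Over.homMk (𝒰.f i) rfl
    haveI : ∀ i, IsOpenImmersion (z i).left := fun i => inferInstanceAs (IsOpenImmersion (𝒰.f i))
    let Z : 𝒰.I₀ → EtOver X := fun i => EtOver.mk ((yon S).map (z i) ≫ U.obj.hom)
      ((repWith_isMultiplicative (S := S) @Etale).comp_mem _ _
        ((repWith_yon_map_iff _ _).2 (inferInstance : Etale (z i).left)) U.property)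
    let f : ∀ i, Z i ⟶ U := fun i => EtOver.homMk (z i) rfl
    refine GrothendieckTopology.superset_covering _ ?_
      (ofArrows_mem_etTop Z f fun x => ⟨𝒰.idx x, 𝒰.covers x⟩)
    refine (Sieve.generate_le_iff _ _).2 ?_
    rintro _ _ ⟨i⟩
    exact ⟨⟨ULiftHom.objUp ⟨Z i, ⟨inferInstanceAs (CompactSpace ↥(𝒰.X i)),
      inferInstanceAs (QuasiSeparatedSpace ↥(𝒰.X i))⟩⟩, 𝟙 _, f i, Category.id_comp _⟩⟩

/-- The topology of the small subsite. -/
abbrev topSpQC : GrothendieckTopology (EtSpQC X) := (inclSpQC X).restrictedTopology (etTop X)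

theorem isQCSite_topSpQC (U : EtSpQC X) : ToposFin.IsQCSite (topSpQC X) U := by
  intro R hR
  rw [Functor.mem_restrictedTopology_iff] at hR
  haveI : CompactSpace ↥((inclSpQC X).obj U).obj.left.left := U.objDown.property.1
  have h : ∀ w : ((inclSpQC X).obj U).obj.left.left, ∃ (V : EtSpQC X) (g : V ⟶ U),
      R g ∧ w ∈ Set.range ((inclSpQC X).map g).hom.left.left := by
    intro w
    obtain ⟨Z, g, ⟨V, a, b, ha, rfl⟩, y, rfl⟩ := exists_mem_of_coveringSp X hR w
    exact ⟨V, a, ha, b.hom.left.left y, rfl⟩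
  choose V g hg hw using h
  have ho : ∀ w, IsOpen (Set.range ((inclSpQC X).map (g w)).hom.left.left) := fun w => by
    haveI := EtOver.etale_left ((inclSpQC X).map (g w))
    exact ((inclSpQC X).map (g w)).hom.left.left.isOpenMap.isOpen_range
  obtain ⟨t, ht⟩ := isCompact_univ.elim_finite_subcover
    (fun w => Set.range ((inclSpQC X).map (g w)).hom.left.left) ho
    (fun w _ => Set.mem_iUnion.2 ⟨w, hw w⟩)
  refine ⟨t.card, fun k => V (t.equivFin.symm k), fun k => g _, fun k => hg _, ?_⟩
  rw [Functor.mem_restrictedTopology_iff]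
  refine GrothendieckTopology.superset_covering _ (S := Sieve.ofArrows _
    (fun k => (inclSpQC X).map (g (t.equivFin.symm k)))) ((Sieve.generate_le_iff _ _).2 ?_) ?_
  · rintro _ _ ⟨k⟩
    exact ⟨_, g (t.equivFin.symm k), 𝟙 _, Sieve.ofArrows_mk _ _ k, (Category.id_comp _).symm⟩
  · refine ofArrows_mem_etTop _ _ fun y => ?_
    obtain ⟨w, hwt, hy⟩ := Set.mem_iUnion₂.1 (ht (Set.mem_univ y))
    exact ⟨t.equivFin ⟨w, hwt⟩, by rw [Equiv.symm_apply_apply]; exact hy⟩

variable {X}

/-- `U ×_X U` is quasi-compact and quasi-separated. -/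
theorem qcqsPropSp_prodObj [QuasiSeparatedSpace S] (hqs : IsQuasiSeparatedSp X) (E : EtOver X)
    (hE : qcqsPropSp X E) : qcqsPropSp X (EtOver.prodObj E E) := by
  haveI := hE.1; haveI := hE.2
  let U := E.obj.left
  let a := E.obj.hom
  let W := (EtOver.prodObj E E).obj.left
  let p₁ : W ⟶ U := E.property.1.snd a
  let p₂ : W ⟶ U := E.property.1.fst' a
  have hsq : IsPullback ((yon S).map p₂) ((yon S).map p₁) a a := by
    have := E.property.1.isPullback a
    rwa [← Functor.relativelyRepresentable.map_fst'] at this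
  let Q : Over S := U ⨯ U
  let s : W ⟶ Q := prod.lift p₁ p₂
  let g : (yon S).obj Q ⟶ X ⨯ X :=
    prod.lift ((yon S).map prod.fst ≫ a) ((yon S).map prod.snd ≫ a)
  haveI : IsIso (prodComparison (yon S) U U) := inferInstance
  have hQ : ∀ {T : Sp S} (x y : T ⟶ (yon S).obj Q), x ≫ (yon S).map prod.fst = y ≫ (yon S).map prod.fst →
      x ≫ (yon S).map prod.snd = y ≫ (yon S).map prod.snd → x = y := fun x y h1 h2 => by
    rw [← cancel_mono (prodComparison (yon S) U U)]
    apply prod.hom_ext
    · simpa using h1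
    · simpa using h2
  have hs1 : (yon S).map s ≫ (yon S).map prod.fst = (yon S).map p₁ := by
    rw [← Functor.map_comp, prod.lift_fst]
  have hs2 : (yon S).map s ≫ (yon S).map prod.snd = (yon S).map p₂ := by
    rw [← Functor.map_comp, prod.lift_snd]
  have w : ((yon S).map p₁ ≫ a) ≫ Limits.diag X = (yon S).map s ≫ g := by
    apply prod.hom_ext
    · simp [g, reassoc_of% hs1]
    · simp [g, reassoc_of% hs2, hsq.w]
  have sq : IsPullback ((yon S).map p₁ ≫ a) ((yon S).map s) (Limits.diag X) g := by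
    refine IsPullback.of_isLimit' ⟨w⟩ (PullbackCone.IsLimit.mk _
      (fun c => hsq.lift (c.snd ≫ (yon S).map prod.snd) (c.snd ≫ (yon S).map prod.fst) ?_)
      (fun c => ?_) (fun c => ?_) (fun c m h1 h2 => ?_))
    · have h1 := congrArg (· ≫ prod.fst) c.condition
      have h2 := congrArg (· ≫ prod.snd) c.condition
      simp [g] at h1 h2
      rw [Category.assoc, Category.assoc, ← h2, ← h1]
    · have h1 := congrArg (· ≫ prod.fst) c.condition
      simp [g] at h1
      rw [← Category.assoc, hsq.lift_snd, Category.assoc, ← h1]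
    · apply hQ
      · rw [Category.assoc, hs1, hsq.lift_snd]
      · rw [Category.assoc, hs2, hsq.lift_fst]
    · apply hsq.hom_ext
      · rw [hsq.lift_fst, ← h2, Category.assoc, hs2]
      · rw [hsq.lift_snd, ← h2, Category.assoc, hs1]
  haveI : QuasiCompact s.left := hqs.2 g _ s sq
  haveI : Mono s := ⟨fun x y h => (yon S).map_injective (hsq.hom_ext
    (by rw [← hs2, ← Category.assoc, ← Category.assoc, ← Functor.map_comp, h, Functor.map_comp])
    (by rw [← hs1, ← Category.assoc, ← Category.assoc, ← Functor.map_comp, h, Functor.map_comp]))⟩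
  haveI : QuasiCompact U.hom := inferInstance
  haveI : QuasiSeparated U.hom := inferInstance
  let e : Q.left ≅ Limits.pullback U.hom U.hom := Over.prodLeftIsoPullback U U
  haveI : CompactSpace ↥(Limits.pullback U.hom U.hom) :=
    QuasiCompact.compactSpace_of_compactSpace (pullback.fst U.hom U.hom)
  haveI : QuasiSeparatedSpace ↥(Limits.pullback U.hom U.hom) :=
    quasiSeparatedSpace_of_quasiSeparated (pullback.fst U.hom U.hom)
  haveI : CompactSpace ↥Q.left := QuasiCompact.compactSpace_of_compactSpace e.hom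
  haveI : QuasiSeparatedSpace ↥Q.left := quasiSeparatedSpace_of_quasiSeparated e.hom
  haveI : Mono s.left := inferInstanceAs (Mono ((Over.forget S).map s))
  exact ⟨QuasiCompact.compactSpace_of_compactSpace s.left,
    quasiSeparatedSpace_of_quasiSeparated s.left⟩

/-- Étale cohomology of a qcqs algebraic space commutes with filtered colimits. -/
theorem preserves_HEtF [QuasiSeparatedSpace S] (hX : IsAlgSpace X) (hqc : IsQuasiCompactSp X)
    (hqs : IsQuasiSeparatedSp X) (n : ℕ) (Λ : Type (u + 1)) [SmallCategory Λ] [IsFiltered Λ] :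
    PreservesColimitsOfShape Λ (AlgSp.HEtF X n) := by
  haveI := ASp.compactSpace_of_isQuasiCompactSp hqc
  obtain ⟨U, p, hU, hpe, hps⟩ := ASp.exists_affine_chart hX
  let E₀ : EtOver X := EtOver.mk p hpe
  have h₀ : qcqsPropSp X E₀ := ⟨inferInstanceAs (CompactSpace U.left),
    inferInstanceAs (QuasiSeparatedSpace U.left)⟩
  let P₀ := EtOver.prodObj E₀ E₀
  let u₀ : EtSpQC X := ULiftHom.objUp ⟨E₀, h₀⟩
  let P : EtSpQC X := ULiftHom.objUp ⟨P₀, qcqsPropSp_prodObj hqs E₀ h₀⟩
  let p₁ : P ⟶ u₀ := ULift.up (ObjectProperty.homMk (EtOver.prodFst E₀ E₀))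
  let p₂ : P ⟶ u₀ := ULift.up (ObjectProperty.homMk (EtOver.prodSnd E₀ E₀))
  have hP : IsLimit (BinaryFan.mk p₁ p₂) :=
    isLimitOfReflects (inclSpQC X)
      ((isLimitMapConeBinaryFanEquiv (inclSpQC X) p₁ p₂).symm (EtOver.prodIsLimit E₀ E₀))
  haveI : Epi (terminal.from (ToposFin.eps (topSpQC X) u₀)) := by
    refine ⟨fun {Z} x y h => ToposFinLib.hom_ext_app fun V t => ?_⟩
    let Q := EtOver.prodObj ((inclSpQC X).obj V) E₀
    let π : Q ⟶ (inclSpQC X).obj V := EtOver.prodFst _ _
    have hπ : Sieve.ofArrows (fun _ : Unit => Q) (fun _ => π) ∈ etTop X _ := by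
      refine ofArrows_mem_etTop _ _ fun v => ⟨(), ?_⟩
      haveI : Surjective π.hom.left.left := hps.2 _ _ _ (hpe.1.isPullback ((inclSpQC X).obj V).obj.hom)
      exact π.hom.left.left.surjective v
    let R : Sieve V := (Sieve.ofArrows (fun _ : Unit => Q) (fun _ => π)).functorPullback (inclSpQC X)
    have hR : R ∈ topSpQC X V := by
      rw [Functor.mem_restrictedTopology_iff]
      exact Functor.IsCoverDense.functorPullback_pushforward_covering ⟨_, hπ⟩
    refine ToposFinLib.sheaf_ext hR fun W k hk => ?_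
    obtain ⟨_, l, _, ⟨⟨⟩⟩, -⟩ := hk
    let m : W ⟶ u₀ := ULift.up (ObjectProperty.homMk (l ≫ EtOver.prodSnd _ _))
    let z : ToposFin.eps (topSpQC X) W ⟶ ⊤_ (ToposFin.Sh (topSpQC X)) := terminal.from _
    have hz : z ≫ x = z ≫ y := by
      have hf : z = (presheafToSheaf (topSpQC X) (Type (u + 1))).map (yoneda.map m) ≫
          terminal.from (ToposFin.eps (topSpQC X) u₀) := terminal.hom_ext _ _
      rw [hf, Category.assoc, h, Category.assoc]
    have he : ToposFinLib.el ((⊤_ (ToposFin.Sh (topSpQC X))).obj.map k.op t) = z :=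
      terminal.hom_ext _ _
    have hh : ToposFinLib.el ((⊤_ (ToposFin.Sh (topSpQC X))).obj.map k.op t) ≫ x =
        ToposFinLib.el ((⊤_ (ToposFin.Sh (topSpQC X))).obj.map k.op t) ≫ y := by rw [he, hz]
    rw [ToposFinLib.el_comp, ToposFinLib.el_comp] at hh
    exact (NatTrans.naturality_apply x.hom k.op t).symm.trans
      ((ToposFinLib.el.injective hh).trans (NatTrans.naturality_apply y.hom k.op t))
  exact preserves_functorH_dense' (J := topSpQC X) (etTop X) (inclSpQC X) (isQCSite_topSpQC X)
    (good_terminal_of_cover (isQCSite_topSpQC X) p₁ p₂ hP) Λ n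

end

end Groth.Agent.CohColim
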