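import Groth.Agent.CohColim.General
import Groth.Agent.ToposFinLib.FPX
import Groth.Agent.SiteBase.Free

/-!
# Maps from quasi-compact sheaves of sets to filtered colimits
-/

set_option linter.style.haveILetI false

universe u

open CategoryTheory CategoryTheory.Limits Opposite

noncomputable section

namespace Groth.Agent.CohColim

open Groth.Agent.ToposFinLib Groth.Agent.SiteBase ToposFin

variable {C : Type u} [SmallCategory C] (J : GrothendieckTopology C)
variable (Λ : Type u) [SmallCategory Λ] [IsFiltered Λ]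

/-- The underlying sheaf of sets commutes with filtered colimits. -/
theorem preservesColimitsOfShape_forgetSh :
    PreservesColimitsOfShape Λ (sheafCompose J (forget AddCommGrpCat.{u})) := by
  refine ⟨fun {D} => ?_⟩
  let Q := D ⋙ sheafToPresheaf J AddCommGrpCat.{u}
  let L := presheafToSheaf J AddCommGrpCat.{u}
  haveI : PreservesColimit Q (L ⋙ sheafCompose J (forget AddCommGrpCat.{u})) :=
    preservesColimit_of_natIso Q (sheafComposeNatIso J (forget AddCommGrpCat.{u})
      (sheafificationAdjunction J AddCommGrpCat.{u}) (sheafificationAdjunction J (Type u)))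
  haveI : PreservesColimit Q L :=
    (sheafificationAdjunction J AddCommGrpCat.{u}).leftAdjoint_preservesColimits
      |>.preservesColimitsOfShape.preservesColimit
  haveI : PreservesColimit (Q ⋙ L) (sheafCompose J (forget AddCommGrpCat.{u})) :=
    preservesColimit_of_preserves_colimit_cocone
      (isColimitOfPreserves L (colimit.isColimit Q))
      (isColimitOfPreserves (L ⋙ sheafCompose J (forget AddCommGrpCat.{u})) (colimit.isColimit Q))
  exact preservesColimit_of_iso_diagram _
    ((Functor.associator _ _ _) ≪≫ Functor.isoWhiskerLeft D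
      (asIso (sheafificationAdjunction J AddCommGrpCat.{u}).counit) ≪≫ D.rightUnitor)

/-- The sheaf of sets underlying an abelian sheaf. -/
abbrev fSh : Sheaf J AddCommGrpCat.{u} ⥤ Sh J := sheafCompose J (forget AddCommGrpCat.{u})

variable {J}

/-- Maps out of a free abelian sheaf. -/
def freeHomEquiv (K : Sh J) (F : Sheaf J AddCommGrpCat.{u}) :
    ((freeShFun J).obj K ⟶ F) ≃ (K ⟶ (fSh J).obj F) :=
  (freeShEquiv K F).trans ((ObjectProperty.fullyFaithfulι _).homEquiv (X := K)
    (Y := (fSh J).obj F)).symm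

theorem freeHomEquiv_comp (K : Sh J) {F G : Sheaf J AddCommGrpCat.{u}}
    (φ : (freeShFun J).obj K ⟶ F) (f : F ⟶ G) :
    freeHomEquiv K G (φ ≫ f) = freeHomEquiv K F φ ≫ (fSh J).map f := by
  apply Sheaf.hom_ext
  exact freeShEquiv_comp K φ f

/-- A class of quasi-compact sheaves of sets stable under fibre products and refining covers. -/
structure Adm (T : Sh J → Prop) : Prop where
  qc : ∀ K, T K → IsQC K
  of_iso : ∀ {K K' : Sh J}, (K ≅ K') → T K → T K'
  pullback_mem : ∀ {K L M : Sh J} (a : K ⟶ M) (b : L ⟶ M), T K → T L → T M → T (pullback a b)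
  refine_epi : ∀ {F K : Sh J} (g : F ⟶ K), T K → Epi g →
    ∃ (K' : Sh J) (k : K' ⟶ F), T K' ∧ Epi (k ≫ g)

variable {Λ}

theorem exists_factor_adm {T : Sh J → Prop} (hT : Adm T) (E : Λ ⥤ Sh J) {K : Sh J} (hK : T K)
    (f : K ⟶ colimit E) : ∃ (i : Λ) (f' : K ⟶ E.obj i), f' ≫ colimit.ι E i = f := by
  classical
  obtain ⟨s, hs⟩ := IsQC.exists_finset (hT.qc K hK) (cov_pullback' (cov_colimit_ι E) f)
  obtain ⟨k, hk⟩ := IsFiltered.sup_objs_exists s
  have u : ∀ a : s, a.1 ⟶ k := fun a => (hk a.2).some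
  let g : (∐ fun a : s => pullback f (colimit.ι E a.1)) ⟶ K :=
    Sigma.desc fun a => pullback.fst f (colimit.ι E a.1)
  have hg : Epi g := (cov_iff_epi _).1 hs
  obtain ⟨K', m, hK', hm⟩ := hT.refine_epi g hK hg
  let h : (∐ fun a : s => pullback f (colimit.ι E a.1)) ⟶ E.obj k :=
    Sigma.desc fun a => pullback.snd f (colimit.ι E a.1) ≫ E.map (u a)
  have hh : h ≫ colimit.ι E k = g ≫ f := Sigma.hom_ext _ _ fun a => by
    simp only [h, g, colimit.ι_desc_assoc, Cofan.mk_ι_app, Category.assoc, colimit.w]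
    exact pullback.condition.symm
  have hP := hT.qc _ (hT.pullback_mem (m ≫ g) (m ≫ g) hK' hK' hK)
  obtain ⟨j, v, hv⟩ := exists_eq_of_colimit_eq (D := E) hP
    (pullback.fst (m ≫ g) (m ≫ g) ≫ m ≫ h) (pullback.snd (m ≫ g) (m ≫ g) ≫ m ≫ h) (by
      simp only [Category.assoc, hh]
      simpa only [Category.assoc] using
        congrArg (· ≫ f) (pullback.condition (f := m ≫ g) (g := m ≫ g)))
  have hcov : Cov (fun _ : PUnit.{u + 1} => m ≫ g) := fun Z a b e => (cancel_epi (m ≫ g)).1 (e ⟨⟩)
  obtain ⟨f', hf'⟩ := exists_glue hcov (fun _ => m ≫ h ≫ E.map v)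
    (fun _ _ => by simpa only [Category.assoc] using hv)
  refine ⟨j, f', hcov _ _ _ fun _ => ?_⟩
  have h2 := hf' ⟨⟩
  beta_reduce at h2 ⊢
  rw [← Category.assoc, h2, Category.assoc, Category.assoc, colimit.w, hh, Category.assoc]

/-- `Hom(Z[K], -)` commutes with filtered colimits. -/
theorem extColim_zero {T : Sh J → Prop} (hT : Adm T) {K : Sh J} (hK : T K) :
    ExtColim Λ ((freeShFun J).obj K) 0 := by
  intro D
  haveI := preservesColimitsOfShape_forgetSh J Λ
  let e := (preservesColimitIso (fSh J) D)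
  constructor
  · intro x
    obtain ⟨φ, rfl⟩ := (Abelian.Ext.mk₀_bijective _ _).2 x
    obtain ⟨i, f', hf'⟩ := exists_factor_adm hT (D ⋙ fSh J) hK (freeHomEquiv K _ φ ≫ e.hom)
    refine ⟨i, Abelian.Ext.mk₀ ((freeHomEquiv K _).symm f'), ?_⟩
    rw [Abelian.Ext.mk₀_comp_mk₀]
    congr 1
    apply (freeHomEquiv K _).injective
    rw [freeHomEquiv_comp, Equiv.apply_symm_apply, ← cancel_mono e.hom, Category.assoc, ← hf']
    congr 1
    exact ι_preservesColimitIso_hom (fSh J) D i
  · intro i y hy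
    obtain ⟨φ, rfl⟩ := (Abelian.Ext.mk₀_bijective _ _).2 y
    rw [Abelian.Ext.mk₀_comp_mk₀, Abelian.Ext.mk₀_eq_zero_iff] at hy
    have h1 : ∀ (ψ : (freeShFun J).obj K ⟶ D.obj i),
        freeHomEquiv K _ (ψ ≫ colimit.ι D i) ≫ e.hom =
          freeHomEquiv K _ ψ ≫ colimit.ι (D ⋙ fSh J) i := fun ψ => by
      rw [freeHomEquiv_comp, Category.assoc]
      congr 1
      exact ι_preservesColimitIso_hom (fSh J) D i
    obtain ⟨j, v, hv⟩ := exists_eq_of_colimit_eq (D := D ⋙ fSh J) (hT.qc K hK)
      (freeHomEquiv K _ φ) (freeHomEquiv K _ 0)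
      (by rw [← h1, ← h1, hy, zero_comp])
    refine ⟨j, v, ?_⟩
    rw [Abelian.Ext.mk₀_comp_mk₀, Abelian.Ext.mk₀_eq_zero_iff]
    apply (freeHomEquiv K _).injective
    rw [freeHomEquiv_comp]
    refine hv.trans ?_
    exact (freeHomEquiv_comp K 0 (D.map v)).symm.trans (by rw [zero_comp])

end Groth.Agent.CohColim
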