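import Groth.Agent.CohColim.H0
import Groth.Agent.SiteBase.CechCriterion

/-!
# Filtered colimits of injective sheaves have no cohomology on admissible objects
-/

set_option linter.style.haveILetI false
set_option backward.isDefEq.respectTransparency false
set_option backward.isDefEq.respectTransparency.types false

universe u

open CategoryTheory CategoryTheory.Limits Opposite Simplicial Abelian

noncomputable section

namespace Groth.Agent.CohColim

open Groth.Agent.SiteBase ToposFin

variable {C : Type u} [SmallCategory C] {J : GrothendieckTopology C}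

/-- Adding one factor to an iterated fibre product. -/
def widePullbackSuccIso {K' K : Sh J} (f : K' ⟶ K) (n : ℕ) :
    pullback (WidePullback.base (fun _ : Fin (n + 1) => f)) f ≅
      widePullback K (fun _ : Fin (n + 1 + 1) => K') (fun _ => f) where
  hom := WidePullback.lift (pullback.snd _ _ ≫ f)
    (Fin.snoc (α := fun _ => pullback (WidePullback.base (fun _ : Fin (n + 1) => f)) f ⟶ K')
      (fun i => pullback.fst _ _ ≫ WidePullback.π _ i) (pullback.snd _ _))
    (Fin.lastCases (by simp) fun i => by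
      simp only [Fin.snoc_castSucc, Category.assoc, WidePullback.π_arrow]
      exact pullback.condition)
  inv := pullback.lift
    (WidePullback.lift (WidePullback.base _) (fun i => WidePullback.π _ i.castSucc)
      (fun i => WidePullback.π_arrow _ _))
    (WidePullback.π _ (Fin.last _)) (by simp [WidePullback.lift_π, WidePullback.lift_π_assoc, WidePullback.lift_base, WidePullback.lift_base_assoc, pullback.lift_fst, pullback.lift_fst_assoc, pullback.lift_snd, pullback.lift_snd_assoc, Category.assoc, WidePullback.π_arrow])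
  hom_inv_id := by
    apply pullback.hom_ext
    · apply WidePullback.hom_ext
      · intro i; simp [WidePullback.lift_π, WidePullback.lift_π_assoc, WidePullback.lift_base, WidePullback.lift_base_assoc, pullback.lift_fst, pullback.lift_fst_assoc, pullback.lift_snd, pullback.lift_snd_assoc, Category.assoc, WidePullback.π_arrow]
      · simp [WidePullback.lift_π, WidePullback.lift_π_assoc, WidePullback.lift_base, WidePullback.lift_base_assoc, pullback.lift_fst, pullback.lift_fst_assoc, pullback.lift_snd, pullback.lift_snd_assoc, Category.assoc, WidePullback.π_arrow, pullback.condition]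
    · simp [WidePullback.lift_π, WidePullback.lift_π_assoc, WidePullback.lift_base, WidePullback.lift_base_assoc, pullback.lift_fst, pullback.lift_fst_assoc, pullback.lift_snd, pullback.lift_snd_assoc, Category.assoc, WidePullback.π_arrow]
  inv_hom_id := by
    apply WidePullback.hom_ext
    · refine Fin.lastCases ?_ (fun i => ?_) <;> simp [WidePullback.lift_π, WidePullback.lift_π_assoc, WidePullback.lift_base, WidePullback.lift_base_assoc, pullback.lift_fst, pullback.lift_fst_assoc, pullback.lift_snd, pullback.lift_snd_assoc, Category.assoc, WidePullback.π_arrow]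
    · simp [WidePullback.lift_π, WidePullback.lift_π_assoc, WidePullback.lift_base, WidePullback.lift_base_assoc, pullback.lift_fst, pullback.lift_fst_assoc, pullback.lift_snd, pullback.lift_snd_assoc, Category.assoc, WidePullback.π_arrow]

variable {T : Sh J → Prop}

theorem Adm.nerve_mem (hT : Adm T) {K' K : Sh J} (f : K' ⟶ K) (hK' : T K') (hK : T K) :
    ∀ n : ℕ, T ((Arrow.mk f).cechNerve.obj (op ⦋n⦌)) := by
  intro n
  show T (widePullback K (fun _ : Fin (n + 1) => K') fun _ => f)
  induction n with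
  | zero =>
    refine hT.of_iso ?_ hK'
    exact
      { hom := WidePullback.lift f (fun _ => 𝟙 K') (fun _ => Category.id_comp f)
        inv := WidePullback.π _ 0
        hom_inv_id := WidePullback.lift_π _ _ _ _ _
        inv_hom_id := by
          apply WidePullback.hom_ext
          · intro i
            rw [Category.assoc, WidePullback.lift_π, Category.comp_id, Category.id_comp,
              Fin.eq_zero i]
          · rw [Category.assoc, WidePullback.lift_base, Category.id_comp, WidePullback.π_arrow] }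
  | succ n ih => exact hT.of_iso (widePullbackSuccIso f n) (hT.pullback_mem _ f ih hK' hK)

variable (T) in
/-- Vanishing of the Čech cohomology on admissible epimorphisms. -/
def CechExactOn (F : Sheaf J AddCommGrpCat.{u}) : Prop :=
  ∀ (K' K : Sh J) (f : K' ⟶ K), Epi f → T K' → T K →
    ∀ (n : ℕ) (φ : (cechSh f).X (n + 1) ⟶ F), (cechSh f).d (n + 2) (n + 1) ≫ φ = 0 →
      ∃ ψ : (cechSh f).X n ⟶ F, (cechSh f).d (n + 1) n ≫ ψ = φ

theorem cechExactOn_subsingleton_one (hT : Adm T) {F : Sheaf J AddCommGrpCat.{u}}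
    (h : CechExactOn T F) (K : Sh J) (hK : T K) : Subsingleton (CohCx.HK K F 1) := by
  obtain ⟨S, hS, rfl, hI⟩ := exists_injective_presentation F
  haveI := hI
  haveI := hS.mono_f
  haveI := hS.epi_g
  refine subsingleton_of_forall_eq 0 fun x => ?_
  obtain ⟨x₃, rfl⟩ := Ext.covariant_sequence_exact₁ _ hS x
    (Ext.eq_zero_of_injective _) (zero_add 1)
  obtain ⟨s, rfl⟩ := (Ext.mk₀_bijective _ S.X₃).2 x₃
  obtain ⟨K₀, g, hg, t₀, ht₀⟩ := exists_local_lift S.g K s
  obtain ⟨K', k, hK', hf⟩ := hT.refine_epi g hK hg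
  let f := k ≫ g
  haveI : Epi f := hf
  let t := (freeShFun J).map k ≫ t₀
  have ht : t ≫ S.g = (freeShFun J).map f ≫ s := by
    simp only [t, f, Category.assoc, ht₀, Functor.map_comp]
  haveI : QuasiIso (cechShπ f) := quasiIso_cechFree J f
  let t' := cechShProj f ≫ t
  let s' : (cechShAug f).right ⟶ S.X₃ := s
  have ht' : t' ≫ S.g = (cechShπ f).f 0 ≫ s' :=
    ((Category.assoc _ _ _).trans (congrArg (cechShProj f ≫ ·) ht)).trans
      ((Category.assoc _ _ _).symm.trans (congrArg (· ≫ s') (cechShπ_f_zero f).symm))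
  have h0 : ((cechSh f).d 1 0 ≫ t') ≫ S.g = 0 := by
    rw [Category.assoc, ht', ← Category.assoc, resolution_d_comp, zero_comp]
  let χ := hS.exact.lift _ h0
  have hχ : χ ≫ S.f = (cechSh f).d 1 0 ≫ t' := hS.exact.lift_f _ h0
  obtain ⟨a, ha⟩ := h K' K f hf hK' hK 0 χ (by
    rw [← cancel_mono S.f, Category.assoc, hχ, ← Category.assoc, HomologicalComplex.d_comp_d,
      zero_comp, zero_comp])
  obtain ⟨ψ, hψ⟩ := resolution_desc₀ (cechShπ f) (t' - a ≫ S.f) (by
    rw [Preadditive.comp_sub, ← Category.assoc _ a, ha, hχ, sub_self])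
  haveI : Epi ((cechShπ f).f 0) := (resolution_exact₀ (cechShπ f)).2
  have e0 : (t' - a ≫ S.f) ≫ S.g = (cechShπ f).f 0 ≫ s' := by
    refine (Preadditive.sub_comp _ _ _).trans (Eq.trans ?_ ht')
    rw [Category.assoc a, S.zero, comp_zero, sub_zero]
  let ψ' : (freeShFun J).obj K ⟶ S.X₂ := ψ
  have e : ψ' ≫ S.g = s := (cancel_epi ((cechShπ f).f 0)).1
    (((Category.assoc _ _ _).symm.trans (congrArg (· ≫ S.g) hψ)).trans e0)
  have e1 : (Ext.mk₀ ψ').comp (Ext.mk₀ S.g) (zero_add 0) = Ext.mk₀ s :=
    (Ext.mk₀_comp_mk₀ ψ' S.g).trans (congrArg Ext.mk₀ e)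
  rw [← e1, Ext.comp_assoc_of_second_deg_zero,
    ShortComplex.ShortExact.comp_extClass, Ext.comp_zero]

theorem cechExactOn_quotient (hT : Adm T) {S : ShortComplex (Sheaf J AddCommGrpCat.{u})}
    (hS : S.ShortExact) [Injective S.X₂] (h : CechExactOn T S.X₁) : CechExactOn T S.X₃ := by
  intro K' K f hf hK' hK n φ hφ
  haveI := hS.mono_f
  haveI : QuasiIso (cechShπ f) := quasiIso_cechFree J f
  haveI h1 := cechExactOn_subsingleton_one hT h ((Arrow.mk f).cechNerve.obj (op ⦋n + 1⦌))
    (hT.nerve_mem f hK' hK _)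
  obtain ⟨x₂, hx⟩ := Ext.covariant_sequence_exact₃ ((cechSh f).X (n + 1)) hS (Ext.mk₀ φ)
    (zero_add 1) (h1.elim _ _)
  obtain ⟨φ', rfl⟩ := (Ext.mk₀_bijective _ _).2 x₂
  rw [Ext.mk₀_comp_mk₀] at hx
  have hx' : φ' ≫ S.g = φ := (Ext.mk₀_bijective _ _).1 hx
  have h0 : ((cechSh f).d (n + 2) (n + 1) ≫ φ') ≫ S.g = 0 := by rw [Category.assoc, hx', hφ]
  let χ := hS.exact.lift _ h0
  have hχ : χ ≫ S.f = (cechSh f).d (n + 2) (n + 1) ≫ φ' := hS.exact.lift_f _ h0
  obtain ⟨a, ha⟩ := h K' K f hf hK' hK (n + 1) χ (by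
    rw [← cancel_mono S.f, Category.assoc, hχ, ← Category.assoc, HomologicalComplex.d_comp_d,
      zero_comp, zero_comp])
  obtain ⟨ψ, hψ⟩ := hom_resolution_exact (cechShπ f)
    (fun _ q => Ext.subsingleton_of_injective _ S.X₂ q)
    (fun q => Ext.subsingleton_of_injective _ S.X₂ q) n (φ' - a ≫ S.f) (by
      rw [Preadditive.comp_sub, ← Category.assoc _ a, ha, hχ, sub_self])
  refine ⟨ψ ≫ S.g, ?_⟩
  rw [← Category.assoc, hψ, Preadditive.sub_comp, Category.assoc a, S.zero, comp_zero, sub_zero,
    hx']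

theorem subsingleton_of_cechExactOn (hT : Adm T) : ∀ (p : ℕ) {F : Sheaf J AddCommGrpCat.{u}},
    CechExactOn T F → ∀ K : Sh J, T K → Subsingleton (CohCx.HK K F (p + 1)) := by
  intro p
  induction p with
  | zero => exact fun h => cechExactOn_subsingleton_one hT h
  | succ p ih =>
    intro F h K hK
    obtain ⟨S, hS, rfl, hI⟩ := exists_injective_presentation F
    haveI := hI
    haveI := ih (cechExactOn_quotient hT hS h) K hK
    refine subsingleton_of_forall_eq 0 fun x => ?_
    obtain ⟨x₃, rfl⟩ := Ext.covariant_sequence_exact₁ _ hS x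
      (Ext.eq_zero_of_injective _) rfl
    rw [Subsingleton.elim x₃ 0, Ext.zero_comp]

variable {Λ : Type u} [SmallCategory Λ] [IsFiltered Λ]

theorem cechExactOn_colimit (hT : Adm T) (D : Λ ⥤ Sheaf J AddCommGrpCat.{u})
    (hD : ∀ i, Injective (D.obj i)) : CechExactOn T (colimit D) := by
  intro K' K f hf hK' hK n φ hφ
  obtain ⟨i, y, hy⟩ := (extColim_zero (Λ := Λ) hT (hT.nerve_mem f hK' hK (n + 1)) D).1
    (Ext.mk₀ (φ : (freeShFun J).obj _ ⟶ colimit D))
  obtain ⟨φi, rfl⟩ := (Ext.mk₀_bijective _ _).2 y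
  rw [Ext.mk₀_comp_mk₀] at hy
  have hy' : φi ≫ colimit.ι D i = φ := (Ext.mk₀_bijective _ _).1 hy
  let ξ : (cechSh f).X (n + 2) ⟶ D.obj i := (cechSh f).d (n + 2) (n + 1) ≫ φi
  obtain ⟨j, u, hu⟩ := (extColim_zero (Λ := Λ) hT (hT.nerve_mem f hK' hK (n + 2)) D).2 i
    (Ext.mk₀ (ξ : (freeShFun J).obj _ ⟶ D.obj i)) (by
      rw [Ext.mk₀_comp_mk₀, Ext.mk₀_eq_zero_iff]
      show ((cechSh f).d (n + 2) (n + 1) ≫ φi) ≫ colimit.ι D i = 0
      exact (Category.assoc _ _ _).trans ((congrArg (_ ≫ ·) hy').trans hφ))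
  rw [Ext.mk₀_comp_mk₀, Ext.mk₀_eq_zero_iff] at hu
  have hu' : (cechSh f).d (n + 2) (n + 1) ≫ φi ≫ D.map u = 0 :=
    (Category.assoc _ _ _).symm.trans hu
  haveI := hD j
  haveI : QuasiIso (cechShπ f) := quasiIso_cechFree J f
  obtain ⟨ψ, hψ⟩ := hom_resolution_exact (cechShπ f)
    (fun _ q => Ext.subsingleton_of_injective _ (D.obj j) q)
    (fun q => Ext.subsingleton_of_injective _ (D.obj j) q) n _ hu'
  refine ⟨ψ ≫ colimit.ι D j, (Category.assoc _ _ _).symm.trans ?_⟩
  rw [hψ]
  exact (Category.assoc _ _ _).trans ((congrArg (φi ≫ ·) (colimit.w D u)).trans hy')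

/-- Cohomology of admissible objects commutes with filtered colimits. -/
theorem extColim_adm (hT : Adm T) {K : Sh J} (hK : T K) (q : ℕ) :
    ExtColim Λ ((freeShFun J).obj K) q :=
  extColim_of_acyclic Λ (extColim_zero hT hK)
    (fun D hD p => subsingleton_of_cechExactOn hT p (cechExactOn_colimit hT D hD) K hK) q

/-- A filtered colimit of acyclic sheaves is acyclic on admissible objects. -/
theorem subsingleton_colimit (hT : Adm T) {K : Sh J} (hK : T K) (q : ℕ)
    (D : Λ ⥤ Sheaf J AddCommGrpCat.{u}) (hD : ∀ i, Subsingleton (CohCx.HK K (D.obj i) q)) :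
    Subsingleton (CohCx.HK K (colimit D) q) := by
  refine subsingleton_of_forall_eq 0 fun x => ?_
  obtain ⟨i, y, rfl⟩ := (extColim_adm (Λ := Λ) hT hK q D).1 x
  rw [show y = 0 from @Subsingleton.elim _ (hD i) _ _, Ext.zero_comp]

end Groth.Agent.CohColim
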