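import Mathlib
import Groth.Agent.CohColim.General

/-!
# Homology of complexes of abelian groups commutes with filtered colimits
-/

set_option linter.style.haveILetI false

universe u

namespace Groth.Agent.CohColim

open CategoryTheory Limits HomologicalComplex

noncomputable section

variable {κ : Type} {c : ComplexShape κ}

theorem exists_cycle_ab {K : HomologicalComplex AddCommGrpCat.{u} c} {i : κ} (x : K.X i)
    (hx : K.d i (c.next i) x = 0) : ∃ z, K.iCycles i z = x :=
  (ShortComplex.ab_exact_iff _).1 (ShortComplex.exact_of_f_is_kernel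
    (ShortComplex.mk (K.iCycles i) (K.d i (c.next i)) (K.iCycles_d _ _))
    (K.cyclesIsKernel i _ rfl)) x hx

theorem π_eq_zero_iff_ab (K : HomologicalComplex AddCommGrpCat.{u} c) (i : κ) (z : K.cycles i) :
    K.homologyπ i z = 0 ↔ ∃ y, K.d (c.prev i) i y = K.iCycles i z := by
  constructor
  · intro h
    obtain ⟨y, hy⟩ := (ShortComplex.ab_exact_iff _).1 (ShortComplex.exact_of_g_is_cokernel
      (ShortComplex.mk (K.toCycles (c.prev i) i) (K.homologyπ i) (K.toCycles_comp_homologyπ _ _))
      (K.homologyIsCokernel (c.prev i) i rfl)) z h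
    refine ⟨y, ?_⟩
    rw [← hy]
    exact (ConcreteCategory.congr_hom (K.toCycles_i (c.prev i) i) y).symm
  · rintro ⟨y, hy⟩
    have h1 : K.toCycles (c.prev i) i y = z :=
      (AddCommGrpCat.mono_iff_injective (K.iCycles i)).1 inferInstance
        ((ConcreteCategory.congr_hom (K.toCycles_i (c.prev i) i) y).trans hy)
    rw [← h1]
    exact ConcreteCategory.congr_hom (K.toCycles_comp_homologyπ (c.prev i) i) y

variable {Λ : Type u} [SmallCategory Λ] [IsFiltered Λ]

theorem preservesColimitsOfShape_homology_ab (i : κ) :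
    PreservesColimitsOfShape Λ (homologyFunctor AddCommGrpCat.{u} c i) := by
  refine ⟨fun {K} => preservesColimit_addCommGrp _ K (fun ξ => ?_) (fun a ξ h => ?_)⟩
  · obtain ⟨z, rfl⟩ := (AddCommGrpCat.epi_iff_surjective ((colimit K).homologyπ i)).1 inferInstance ξ
    obtain ⟨h1, -⟩ := exists_of_preservesColimit (eval AddCommGrpCat.{u} c i) K
    obtain ⟨-, h2⟩ := exists_of_preservesColimit (eval AddCommGrpCat.{u} c (c.next i)) K
    obtain ⟨j, (x : (K.obj j).X i), (hx : (colimit.ι K j).f i x = _)⟩ := h1 ((colimit K).iCycles i z)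
    obtain ⟨k, f, (hk : (K.map f).f _ ((K.obj j).d i (c.next i) x) = 0)⟩ :=
      h2 j ((K.obj j).d i (c.next i) x) (by
        show (colimit.ι K j).f _ ((K.obj j).d i (c.next i) x) = 0
        rw [← ConcreteCategory.comp_apply, ← (colimit.ι K j).comm i _, ConcreteCategory.comp_apply,
          hx]
        exact ConcreteCategory.congr_hom ((colimit K).iCycles_d i _) z)
    obtain ⟨y, hy⟩ := exists_cycle_ab ((K.map f).f i x) (by
      rw [← ConcreteCategory.comp_apply ((K.map f).f i), (K.map f).comm i _,
        ConcreteCategory.comp_apply]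
      exact hk)
    refine ⟨k, (K.obj k).homologyπ i y, ?_⟩
    show homologyMap (colimit.ι K k) i ((K.obj k).homologyπ i y) = (colimit K).homologyπ i z
    rw [← ConcreteCategory.comp_apply ((K.obj k).homologyπ i), homologyπ_naturality,
      ConcreteCategory.comp_apply]
    congr 1
    refine (AddCommGrpCat.mono_iff_injective ((colimit K).iCycles i)).1 inferInstance ?_
    rw [← ConcreteCategory.comp_apply]
    erw [cyclesMap_i, ConcreteCategory.comp_apply, hy]
    rw [← ConcreteCategory.comp_apply, ← comp_f, colimit.w]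
    exact hx
  · obtain ⟨y, rfl⟩ := (AddCommGrpCat.epi_iff_surjective ((K.obj a).homologyπ i)).1 inferInstance ξ
    have h' : homologyMap (colimit.ι K a) i ((K.obj a).homologyπ i y) = 0 := h
    rw [← ConcreteCategory.comp_apply, homologyπ_naturality, ConcreteCategory.comp_apply,
      π_eq_zero_iff_ab] at h'
    obtain ⟨w, hw⟩ := h'
    obtain ⟨h1, -⟩ := exists_of_preservesColimit (eval AddCommGrpCat.{u} c (c.prev i)) K
    obtain ⟨-, h2⟩ := exists_of_preservesColimit (eval AddCommGrpCat.{u} c i) K
    obtain ⟨b, (w' : (K.obj b).X (c.prev i)), (hw' : (colimit.ι K b).f _ w' = w)⟩ := h1 w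
    let m := IsFiltered.max a b
    let p : a ⟶ m := IsFiltered.leftToMax a b
    let r : b ⟶ m := IsFiltered.rightToMax a b
    obtain ⟨k, f, (hk : (K.map f).f i ((K.map p).f i ((K.obj a).iCycles i y) -
        (K.map r).f i ((K.obj b).d (c.prev i) i w')) = 0)⟩ :=
      h2 m ((K.map p).f i ((K.obj a).iCycles i y) - (K.map r).f i ((K.obj b).d (c.prev i) i w')) (by
        show (colimit.ι K m).f i _ = 0
        rw [map_sub, sub_eq_zero, ← ConcreteCategory.comp_apply, ← comp_f, colimit.w,
          ← ConcreteCategory.comp_apply ((K.map r).f i), ← comp_f, colimit.w,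
          ← ConcreteCategory.comp_apply ((K.obj b).d (c.prev i) i),
          ← (colimit.ι K b).comm (c.prev i) i, ConcreteCategory.comp_apply, hw']
        erw [hw]
        rw [← ConcreteCategory.comp_apply, ← cyclesMap_i, ConcreteCategory.comp_apply])
    rw [map_sub, sub_eq_zero] at hk
    refine ⟨k, p ≫ f, ?_⟩
    show homologyMap (K.map (p ≫ f)) i ((K.obj a).homologyπ i y) = 0
    rw [← ConcreteCategory.comp_apply, homologyπ_naturality, ConcreteCategory.comp_apply,
      π_eq_zero_iff_ab]
    refine ⟨(K.map (r ≫ f)).f (c.prev i) w', ?_⟩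
    rw [← ConcreteCategory.comp_apply ((K.map (r ≫ f)).f (c.prev i)),
      (K.map (r ≫ f)).comm (c.prev i) i, ConcreteCategory.comp_apply,
      ← ConcreteCategory.comp_apply (cyclesMap (K.map (p ≫ f)) i),
      cyclesMap_i, ConcreteCategory.comp_apply, Functor.map_comp, Functor.map_comp, comp_f, comp_f,
      ConcreteCategory.comp_apply, ConcreteCategory.comp_apply]
    exact hk.symm

end

end Groth.Agent.CohColim
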