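import Mathlib
import Groth.Prelude
import Groth.Agent.CohColim.General
import Groth.Agent.CohColim.Homology
import Groth.Agent.SiteBase.FamilyCartan
import Groth.Agent.SiteBase.FamilyCechApps

/-!
# Cohomology and filtered colimits for a site with finite coverings
-/

set_option linter.style.haveILetI false
set_option backward.isDefEq.respectTransparency false
set_option backward.isDefEq.respectTransparency.types false

universe u

namespace Groth.Agent.CohColim

open CategoryTheory Limits Opposite CategoryTheory.Abelian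

noncomputable section

/-- Finitely many conditions stable under later stages hold at a common stage. -/
theorem exists_common_stage {Λ : Type u} [SmallCategory Λ] [IsFiltered Λ] {κ : Type u} [Finite κ]
    {i : Λ} (P : κ → ∀ ⦃j : Λ⦄, (i ⟶ j) → Prop)
    (hmono : ∀ k ⦃j j' : Λ⦄ (f : i ⟶ j) (g : j ⟶ j'), P k f → P k (f ≫ g))
    (h : ∀ k, ∃ (j : Λ) (f : i ⟶ j), P k f) : ∃ (j : Λ) (f : i ⟶ j), ∀ k, P k f := by
  classical
  haveI := Fintype.ofFinite κ
  suffices H : ∀ s : Finset κ, ∃ (j : Λ) (f : i ⟶ j), ∀ k ∈ s, P k f by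
    obtain ⟨j, f, hf⟩ := H Finset.univ
    exact ⟨j, f, fun k => hf k (Finset.mem_univ k)⟩
  intro s
  induction s using Finset.induction with
  | empty => exact ⟨i, 𝟙 i, fun k hk => absurd hk (Finset.notMem_empty k)⟩
  | @insert a s ha ih =>
    obtain ⟨j₁, f₁, h₁⟩ := ih
    obtain ⟨j₂, f₂, h₂⟩ := h a
    obtain ⟨m, g₁, g₂, e⟩ := IsFiltered.span f₁ f₂
    refine ⟨m, f₁ ≫ g₁, fun k hk => ?_⟩
    rcases Finset.mem_insert.1 hk with rfl | hk
    · rw [e]; exact hmono _ _ _ h₂
    · exact hmono _ _ _ (h₁ k hk)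

variable {C : Type u} [SmallCategory C] [HasPullbacks C] (J : GrothendieckTopology C)
  (B : Set C) (Cv : ∀ (U : C) (ι : Type u), (ι → Over U) → Prop)

/-- Finite coverings with all overlaps in `B`, cofinal on `B`. -/
structure FiniteCovs : Prop where
  data : ∀ (U : C) (ι : Type u) (Y : ι → Over U), Cv U ι Y → Finite ι ∧ U ∈ B ∧
    Sieve.ofArrows (fun i => (Y i).left) (fun i => (Y i).hom) ∈ J U ∧
    ∀ (p : ℕ) (a : Fin (p + 1) → ι), (∏ᶜ fun k => Y (a k)).left ∈ B
  cofinal : ∀ U ∈ B, ∀ T ∈ J U,
    ∃ (ι : Type u) (Y : ι → Over U), Cv U ι Y ∧ ∀ i, T.arrows (Y i).hom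

variable {J B Cv}

theorem sections_ext (G : Sheaf J AddCommGrpCat.{u}) {U : C} {ι : Type u} {Y : ι → Over U}
    (hY : Sieve.ofArrows (fun i => (Y i).left) (fun i => (Y i).hom) ∈ J U)
    {x y : G.obj.obj (op U)}
    (h : ∀ k, G.obj.map (Y k).hom.op x = G.obj.map (Y k).hom.op y) : x = y := by
  have hs := ((isSheaf_iff_isSheaf_of_type J _).1
    ((sheafCompose J (forget AddCommGrpCat.{u})).obj G).property) _ hY
  refine hs.isSeparatedFor.ext fun W g hg => ?_
  obtain ⟨k, a, rfl⟩ := Sieve.ofArrows.exists hg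
  show G.obj.map (a ≫ (Y k).hom).op x = G.obj.map (a ≫ (Y k).hom).op y
  rw [op_comp, G.obj.map_comp, ConcreteCategory.comp_apply, ConcreteCategory.comp_apply, h k]

theorem sections_glue (G : Sheaf J AddCommGrpCat.{u}) {U : C} {ι : Type u} (Y : ι → Over U)
    (hY : Sieve.ofArrows (fun i => (Y i).left) (fun i => (Y i).hom) ∈ J U)
    (y : ∀ k, G.obj.obj (op (Y k).left))
    (h : ∀ a b : ι, G.obj.map (Pi.π (fun k : Fin 2 => Y (![a, b] k)) 0).left.op (y a) =
      G.obj.map (Pi.π (fun k : Fin 2 => Y (![a, b] k)) 1).left.op (y b)) :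
    ∃ x : G.obj.obj (op U), ∀ k, G.obj.map (Y k).hom.op x = y k := by
  have hs := (Presieve.isSheafFor_iff_generate _).2
    (((isSheaf_iff_isSheaf_of_type J _).1
      ((sheafCompose J (forget AddCommGrpCat.{u})).obj G).property) _ hY)
  have hc : Presieve.Arrows.Compatible (G.obj ⋙ forget AddCommGrpCat.{u})
      (fun i => (Y i).hom) y := by
    intro a b Z ga gb e
    let l : Over.mk (ga ≫ (Y a).hom) ⟶ ∏ᶜ fun k : Fin 2 => Y (![a, b] k) :=
      Pi.lift (Fin.cases (Over.homMk ga rfl) (Fin.cases (Over.homMk gb e.symm) fun i => i.elim0))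
    have h0 : l.left ≫ (Pi.π (fun k : Fin 2 => Y (![a, b] k)) 0).left = ga := by
      rw [← Over.comp_left, Pi.lift_π]; rfl
    have h1 : l.left ≫ (Pi.π (fun k : Fin 2 => Y (![a, b] k)) 1).left = gb := by
      rw [← Over.comp_left, Pi.lift_π]; rfl
    show G.obj.map ga.op (y a) = G.obj.map gb.op (y b)
    rw [← h0, ← h1, op_comp, op_comp, G.obj.map_comp, G.obj.map_comp]
    exact congrArg (G.obj.map l.left.op) (h a b)
  obtain ⟨x, hx, -⟩ := (Presieve.isSheafFor_arrows_iff _ _).1 hs y hc
  exact ⟨x, hx⟩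

variable (hB : FiniteCovs J B Cv) {Λ : Type u} [SmallCategory Λ] [IsFiltered Λ]
  (F : Λ ⥤ Sheaf J AddCommGrpCat.{u})

/-- The comparison with the presheaf colimit. -/
abbrev colimComparison : colimit (F ⋙ sheafToPresheaf J AddCommGrpCat.{u}) ⟶ (colimit F).obj :=
  colimit.post F (sheafToPresheaf J AddCommGrpCat.{u})

theorem colimComparison_locally :
    Presheaf.IsLocallyInjective J (colimComparison F) ∧
      Presheaf.IsLocallySurjective J (colimComparison F) := by
  let c := colimit.cocone (F ⋙ sheafToPresheaf J AddCommGrpCat.{u})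
  let e : (Sheaf.sheafifyCocone c).pt ≅ colimit F :=
    (Sheaf.isColimitSheafifyCocone c (colimit.isColimit _)).coconePointUniqueUpToIso
      (colimit.isColimit F)
  have h : colimComparison F = toSheafify J c.pt ≫ (sheafToPresheaf J _).map e.hom := by
    refine colimit.hom_ext fun i => ?_
    rw [colimComparison, colimit.ι_post]
    have h2 : (Sheaf.sheafifyCocone c).ι.app i ≫ e.hom = colimit.ι F i :=
      IsColimit.comp_coconePointUniqueUpToIso_hom _ _ i
    rw [← h2]
    rw [Functor.map_comp]
    show ((Sheaf.sheafifyCocone c).ι.app i).hom ≫ e.hom.hom = _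
    rw [Sheaf.sheafifyCocone_ι_app_val]
    exact Category.assoc (c.ι.app i) (toSheafify J c.pt) e.hom.hom
  rw [h]
  let φ : (Sheaf.sheafifyCocone c).pt.obj ⟶ (colimit F).obj := (sheafToPresheaf J _).map e.hom
  haveI : IsIso φ := inferInstanceAs (IsIso ((sheafToPresheaf J AddCommGrpCat.{u}).map e.hom))
  haveI : Presheaf.IsLocallyInjective J φ :=
    Presheaf.isLocallyInjective_of_injective J φ fun X =>
      (ConcreteCategory.bijective_of_isIso (φ.app X)).1
  haveI : Presheaf.IsLocallySurjective J φ :=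
    Presheaf.isLocallySurjective_of_surjective J φ fun X =>
      (ConcreteCategory.bijective_of_isIso (φ.app X)).2
  exact ⟨Presheaf.isLocallyInjective_comp J (toSheafify J c.pt) φ,
    Presheaf.isLocallySurjective_comp J (toSheafify J c.pt) φ⟩

include hB in
theorem colimComparison_injective {U : C} (hU : U ∈ B)
    (x : (colimit (F ⋙ sheafToPresheaf J AddCommGrpCat.{u})).obj (op U))
    (hx : (colimComparison F).app (op U) x = 0) : x = 0 := by
  let D := F ⋙ sheafToPresheaf J AddCommGrpCat.{u}
  haveI := (colimComparison_locally F).1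
  have hT := Presheaf.equalizerSieve_mem J (colimComparison F) (X := op U) x 0
    (hx.trans (map_zero ((colimComparison F).app (op U)).hom).symm)
  obtain ⟨ι, Y, hY, hYT⟩ := hB.cofinal U hU _ hT
  obtain ⟨hfin, -, hcov, -⟩ := hB.data U ι Y hY
  haveI := hfin
  obtain ⟨hs, -⟩ := exists_of_preservesColimit
    ((evaluation Cᵒᵖ AddCommGrpCat.{u}).obj (op U)) D
  obtain ⟨i, (y : (F.obj i).obj.obj (op U)), rfl⟩ := hs x
  obtain ⟨j, f, hf⟩ := exists_common_stage
    (fun (k : ι) ⦃j : Λ⦄ (f : i ⟶ j) =>
      (F.obj j).obj.map (Y k).hom.op ((F.map f).hom.app (op U) y) = 0)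
    (fun k j j' f g hk => by
      show (F.obj j').obj.map (Y k).hom.op ((F.map (f ≫ g)).hom.app (op U) y) = 0
      rw [Functor.map_comp]
      show (F.obj j').obj.map (Y k).hom.op ((F.map g).hom.app (op U) ((F.map f).hom.app (op U) y)) = 0
      rw [← NatTrans.naturality_apply, hk, map_zero])
    (fun k => by
      obtain ⟨-, hz⟩ := exists_of_preservesColimit
        ((evaluation Cᵒᵖ AddCommGrpCat.{u}).obj (op (Y k).left)) D
      obtain ⟨j, f, hf⟩ := hz i ((F.obj i).obj.map (Y k).hom.op y) (by
        show (colimit.ι D i).app _ ((D.obj i).map (Y k).hom.op y) = 0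
        rw [NatTrans.naturality_apply]
        exact (hYT k).trans (map_zero ((colimit D).map (Y k).hom.op).hom))
      refine ⟨j, f, ?_⟩
      rw [← NatTrans.naturality_apply]
      exact hf)
  have h0 : (F.map f).hom.app (op U) y = 0 :=
    sections_ext (F.obj j) hcov fun k => (hf k).trans (map_zero _).symm
  show (colimit.ι D i).app (op U) y = 0
  rw [← colimit.w D f, NatTrans.comp_app, ConcreteCategory.comp_apply]
  show (colimit.ι D j).app (op U) ((F.map f).hom.app (op U) y) = 0
  rw [h0, map_zero]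

include hB in
theorem colimComparison_surjective {U : C} (hU : U ∈ B) (s : (colimit F).obj.obj (op U)) :
    ∃ x, (colimComparison F).app (op U) x = s := by
  classical
  let D := F ⋙ sheafToPresheaf J AddCommGrpCat.{u}
  haveI := (colimComparison_locally F).2
  obtain ⟨ι, Y, hY, hYT⟩ := hB.cofinal U hU _
    (Presheaf.imageSieve_mem J (colimComparison F) s)
  obtain ⟨hfin, -, hcov, hov⟩ := hB.data U ι Y hY
  haveI := hfin
  haveI := Fintype.ofFinite ι
  choose t ht using hYT
  have ht' : ∀ k, ∃ (i : Λ) (y : (F.obj i).obj.obj (op (Y k).left)),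
      (colimit.ι D i).app (op (Y k).left) y = t k := fun k =>
    (exists_of_preservesColimit ((evaluation Cᵒᵖ AddCommGrpCat.{u}).obj (op (Y k).left)) D).1 (t k)
  choose ik yk hyk using ht'
  obtain ⟨i, hi⟩ := IsFiltered.sup_objs_exists (Finset.univ.image ik)
  have hi' : ∀ k, Nonempty (ik k ⟶ i) := fun k =>
    hi (Finset.mem_image_of_mem ik (Finset.mem_univ k))
  let y : ∀ k, (F.obj i).obj.obj (op (Y k).left) :=
    fun k => (F.map (hi' k).some).hom.app _ (yk k)
  have hy : ∀ k, (colimit.ι D i).app (op (Y k).left) (y k) = t k := fun k => by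
    rw [← hyk k, ← colimit.w D (hi' k).some]
    rfl
  obtain ⟨j, f, hf⟩ := exists_common_stage (κ := ι × ι)
    (fun ab ⦃j : Λ⦄ (f : i ⟶ j) =>
      (F.obj j).obj.map (Pi.π (fun k : Fin 2 => Y (![ab.1, ab.2] k)) 0).left.op
          ((F.map f).hom.app _ (y ab.1)) =
        (F.obj j).obj.map (Pi.π (fun k : Fin 2 => Y (![ab.1, ab.2] k)) 1).left.op
          ((F.map f).hom.app _ (y ab.2)))
    (fun ab j j' f g hk => by
      have hk' := congrArg ((F.map g).hom.app _) hk
      erw [NatTrans.naturality_apply, NatTrans.naturality_apply] at hk'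
      rw [Functor.map_comp]
      exact hk')
    (fun ab => by
      obtain ⟨a, b⟩ := ab
      let W := (∏ᶜ fun k : Fin 2 => Y (![a, b] k))
      let q₀ : W.left ⟶ (Y a).left := (Pi.π (fun k : Fin 2 => Y (![a, b] k)) 0).left
      let q₁ : W.left ⟶ (Y b).left := (Pi.π (fun k : Fin 2 => Y (![a, b] k)) 1).left
      have hW : W.left ∈ B := hov 1 ![a, b]
      let d : (F.obj i).obj.obj (op W.left) :=
        (F.obj i).obj.map q₀.op (y a) - (F.obj i).obj.map q₁.op (y b)
      have hd : (colimit.ι D i).app (op W.left) d = 0 := by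
        apply colimComparison_injective hB F hW
        have e0 : ∀ (c : ι) (q : W.left ⟶ (Y c).left), q ≫ (Y c).hom = W.hom →
            (colimComparison F).app (op W.left)
              ((colimit.ι D i).app (op W.left) ((F.obj i).obj.map q.op (y c))) =
              (colimit F).obj.map W.hom.op s := fun c q hq => by
          have e1 : (colimit.ι D i).app (op W.left) ((F.obj i).obj.map q.op (y c)) =
              (colimit D).map q.op (t c) :=
            (NatTrans.naturality_apply (colimit.ι D i) q.op (y c)).trans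
              (congrArg ((colimit D).map q.op) (hy c))
          rw [e1, NatTrans.naturality_apply, ht c, ← hq, op_comp, Functor.map_comp,
            ConcreteCategory.comp_apply]
        simp only [d, map_sub]
        rw [e0 a q₀ (Over.w _), e0 b q₁ (Over.w _), sub_self]
      obtain ⟨j, f, hf⟩ :=
        (exists_of_preservesColimit ((evaluation Cᵒᵖ AddCommGrpCat.{u}).obj (op W.left)) D).2 i d hd
      refine ⟨j, f, ?_⟩
      have hf' : (F.map f).hom.app (op W.left) d = 0 := hf
      simp only [d, map_sub, sub_eq_zero] at hf'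
      erw [NatTrans.naturality_apply, NatTrans.naturality_apply] at hf'
      exact hf')
  obtain ⟨z, hz⟩ := sections_glue (F.obj j) Y hcov (fun k => (F.map f).hom.app _ (y k))
    fun a b => hf (a, b)
  refine ⟨(colimit.ι D j).app (op U) z, sections_ext (colimit F) hcov fun k => ?_⟩
  have e1 : (colimit.ι D j).app (op (Y k).left) ((F.map f).hom.app _ (y k)) = t k := by
    rw [← hy k, ← colimit.w D f]
    rfl
  rw [← ht k, ← e1, ← hz k]
  erw [NatTrans.naturality_apply]
  rw [NatTrans.naturality_apply]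

include hB in
/-- Sections over members of `B` commute with filtered colimits. -/
theorem preservesColimit_sections {U : C} (hU : U ∈ B) :
    PreservesColimit F (sheafToPresheaf J AddCommGrpCat.{u} ⋙
      (evaluation Cᵒᵖ AddCommGrpCat.{u}).obj (op U)) := by
  let D := F ⋙ sheafToPresheaf J AddCommGrpCat.{u}
  obtain ⟨hs, hz⟩ := exists_of_preservesColimit
    ((evaluation Cᵒᵖ AddCommGrpCat.{u}).obj (op U)) D
  have hι : ∀ (i : Λ) (y : (F.obj i).obj.obj (op U)),
      (colimComparison F).app (op U) ((colimit.ι D i).app (op U) y) =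
        (colimit.ι F i).hom.app (op U) y := fun i y => by
    rw [← ConcreteCategory.comp_apply, ← NatTrans.comp_app, colimComparison, colimit.ι_post]
    rfl
  refine preservesColimit_addCommGrp _ F (fun s => ?_) (fun i y hy => ?_)
  · obtain ⟨x, rfl⟩ := colimComparison_surjective hB F hU s
    obtain ⟨i, y, rfl⟩ := hs x
    exact ⟨i, y, (hι i y).symm⟩
  · exact hz i y (colimComparison_injective hB F hU _ ((hι i y).trans hy))

include hB in
theorem preserves_sections {U : C} (hU : U ∈ B) :
    PreservesColimitsOfShape Λ (sheafToPresheaf J AddCommGrpCat.{u} ⋙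
      (evaluation Cᵒᵖ AddCommGrpCat.{u}).obj (op U)) :=
  ⟨fun {F} => preservesColimit_sections hB F hU⟩

/-- Čech complexes of a finite family commute with colimits commuting with the sections. -/
theorem preserves_cechHFamily {U : C} {ι : Type u} [Finite ι] (Y : ι → Over U)
    (h : ∀ (n : ℕ) (a : Fin (n + 1) → ι), PreservesColimitsOfShape Λ
      (sheafToPresheaf J AddCommGrpCat.{u} ⋙
        (evaluation Cᵒᵖ AddCommGrpCat.{u}).obj (op (∏ᶜ fun k => Y (a k)).left))) (q : ℕ) :
    PreservesColimitsOfShape Λ ((sheafToPresheaf J AddCommGrpCat.{u} ⋙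
      (Functor.whiskeringLeft (Over U)ᵒᵖ Cᵒᵖ AddCommGrpCat.{u}).obj (Over.forget U).op ⋙
        cechComplexFunctor Y) ⋙
          HomologicalComplex.homologyFunctor AddCommGrpCat.{u} (ComplexShape.up ℕ) q) := by
  let G := sheafToPresheaf J AddCommGrpCat.{u} ⋙
    (Functor.whiskeringLeft (Over U)ᵒᵖ Cᵒᵖ AddCommGrpCat.{u}).obj (Over.forget U).op ⋙
      cechComplexFunctor Y
  haveI : PreservesColimitsOfShape Λ G := by
    refine HomologicalComplex.preservesColimitsOfShape_of_eval G fun n => ?_
    haveI : PreservesColimitsOfShape Λ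
        (lim : (Discrete (Fin (n + 1) → ι) ⥤ AddCommGrpCat.{u}) ⥤ AddCommGrpCat.{u}) :=
      preservesColimitsOfShape_of_natIso HasBiproductsOfShape.colimIsoLim
    let Φ : Sheaf J AddCommGrpCat.{u} ⥤ (Discrete (Fin (n + 1) → ι) ⥤ AddCommGrpCat.{u}) :=
      { obj := fun F => Discrete.functor fun a => F.obj.obj (op (∏ᶜ fun k => Y (a k)).left)
        map := fun f => Discrete.natTrans fun a => f.hom.app _ }
    haveI : PreservesColimitsOfShape Λ Φ :=
      preservesColimitsOfShape_of_evaluation Φ Λ fun a => by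
        obtain ⟨a⟩ := a
        haveI := h n a
        exact preservesColimitsOfShape_of_natIso (NatIso.ofComponents (fun F => Iso.refl _)
          (fun f => by simp [Φ]) :
            sheafToPresheaf J AddCommGrpCat.{u} ⋙
              (evaluation Cᵒᵖ AddCommGrpCat.{u}).obj (op (∏ᶜ fun k => Y (a k)).left) ≅
              Φ ⋙ (evaluation _ _).obj ⟨a⟩)
    exact preservesColimitsOfShape_of_natIso (NatIso.ofComponents (fun F => Iso.refl _)
      (fun f => by simp [Φ]; rfl) : Φ ⋙ lim ≅ G ⋙ HomologicalComplex.eval _ _ n)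
  haveI := preservesColimitsOfShape_homology_ab (c := ComplexShape.up ℕ) (Λ := Λ) q
  exact inferInstanceAs (PreservesColimitsOfShape Λ
    (G ⋙ HomologicalComplex.homologyFunctor AddCommGrpCat.{u} (ComplexShape.up ℕ) q))

include hB in
/-- `H^q(U, -)` commutes with filtered colimits for `U` in `B`. -/
theorem extColim_cartan {U : C} (hU : U ∈ B) (q : ℕ) :
    ExtColim Λ (SiteBase.freeAb J U) q := by
  refine extColim_of_acyclic Λ (fun D => ?_) (fun D hD p => ?_) q
  · haveI := preservesColimit_sections hB D hU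
    obtain ⟨hs, hz⟩ := exists_of_preservesColimit (sheafToPresheaf J AddCommGrpCat.{u} ⋙
      (evaluation Cᵒᵖ AddCommGrpCat.{u}).obj (op U)) D
    refine ⟨fun x => ?_, fun i y hy => ?_⟩
    · obtain ⟨φ, rfl⟩ := (Ext.mk₀_bijective _ _).2 x
      obtain ⟨i, y, hy⟩ := hs (SiteBase.secEquiv U _ φ)
      refine ⟨i, Ext.mk₀ ((SiteBase.secEquiv U _).symm y), ?_⟩
      rw [Ext.mk₀_comp_mk₀]
      congr 1
      apply (SiteBase.secEquiv U _).injective
      rw [SiteBase.secEquiv_comp, Equiv.apply_symm_apply]
      exact hy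
    · obtain ⟨φ, rfl⟩ := (Ext.mk₀_bijective _ _).2 y
      rw [Ext.mk₀_comp_mk₀, Ext.mk₀_eq_zero_iff] at hy
      obtain ⟨j, f, hf⟩ := hz i (SiteBase.secEquiv U _ φ) (by
        show (colimit.ι D i).hom.app (op U) (SiteBase.secEquiv U _ φ) = 0
        rw [← SiteBase.secEquiv_comp, hy, SiteBase.secEquiv_zero])
      refine ⟨j, f, ?_⟩
      rw [Ext.mk₀_comp_mk₀, Ext.mk₀_eq_zero_iff]
      apply (SiteBase.secEquiv U _).injective
      rw [SiteBase.secEquiv_comp, SiteBase.secEquiv_zero]
      exact hf
  · refine SiteBase.subsingleton_HU_cartan B Cv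
      (fun U ι Y h => (hB.data U ι Y h).2) hB.cofinal (colimit D) (fun U ι Y h p => ?_) p U hU
    obtain ⟨hfin, -, hcov, hov⟩ := hB.data U ι Y h
    haveI := hfin
    haveI := preserves_cechHFamily (J := J) (Λ := Λ) Y
      (fun n a => preserves_sections hB (hov n a)) (p + 1)
    obtain ⟨hs, -⟩ := exists_of_preservesColimit ((sheafToPresheaf J AddCommGrpCat.{u} ⋙
      (Functor.whiskeringLeft (Over U)ᵒᵖ Cᵒᵖ AddCommGrpCat.{u}).obj (Over.forget U).op ⋙
        cechComplexFunctor Y) ⋙
          HomologicalComplex.homologyFunctor AddCommGrpCat.{u} (ComplexShape.up ℕ) (p + 1)) D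
    haveI : Subsingleton (CohCx.cechH (colimit D).obj Y (p + 1)) := by
      refine subsingleton_of_forall_eq 0 fun x => ?_
      obtain ⟨i, y, rfl⟩ := hs x
      haveI := hD i
      haveI := AddCommGrpCat.subsingleton_of_isZero
        (SiteBase.isZero_cech_injective Y (D.obj i) hcov p)
      rw [show y = 0 from @Subsingleton.elim _ ‹_› _ _]
      exact map_zero _
    exact AddCommGrpCat.isZero_of_subsingleton _

end

end Groth.Agent.CohColim
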