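import Mathlib
import Groth.Prelude
import Groth.Agent.CohColim.Transfer

/-!
# Cohomology over objects of a small dense subsite
-/

set_option linter.style.haveILetI false

universe u

namespace Groth.Agent.CohColim

open CategoryTheory Limits Opposite CategoryTheory.Abelian

noncomputable section

variable {C : Type u} [SmallCategory C] {J : GrothendieckTopology C}
  {E : Type u} [SmallCategory E] (K : GrothendieckTopology E) (G : C ⥤ E) [G.IsDenseSubsite J K]

/-- The free sheaf on an object corresponds under the comparison. -/
def freeAbDenseIso (U : C) :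
    (Functor.IsDenseSubsite.sheafEquiv J K G AddCommGrpCat.{u}).functor.obj (SiteBase.freeAb J U) ≅
      SiteBase.freeAb K (G.obj U) :=
  let e := Functor.IsDenseSubsite.sheafEquiv J K G AddCommGrpCat.{u}
  Coyoneda.fullyFaithful.preimageIso (X := op (e.functor.obj (SiteBase.freeAb J U)))
    (Y := op (SiteBase.freeAb K (G.obj U)))
    (NatIso.ofComponents (fun F => ((e.toAdjunction.homEquiv _ F).trans
        ((SiteBase.secEquiv U (e.inverse.obj F)).trans (SiteBase.secEquiv (G.obj U) F).symm)).toIso)
      (fun {F F'} f => by
        ext φ
        show (SiteBase.secEquiv (G.obj U) F').symm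
            (SiteBase.secEquiv U _ (e.toAdjunction.homEquiv _ F' (φ ≫ f))) =
          (SiteBase.secEquiv (G.obj U) F).symm
            (SiteBase.secEquiv U _ (e.toAdjunction.homEquiv _ F φ)) ≫ f
        rw [Adjunction.homEquiv_naturality_right, SiteBase.secEquiv_comp]
        exact (SiteBase.secEquiv_symm_comp (G.obj U) _ f).symm)) |>.unop.symm

variable (Λ : Type u) [SmallCategory Λ] [IsFiltered Λ]

/-- Cohomology over an object of a dense subsite with fibre products and quasi-compact objects
commutes with filtered colimits. -/
theorem preserves_cohomologyPresheaf_dense [HasPullbacks C]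
    (hC : ∀ X : C, ToposFin.IsQCSite J X) (U : C) (q : ℕ) :
    PreservesColimitsOfShape Λ
      ((Sheaf.cohomologyPresheafFunctor K q).flip.obj (op (G.obj U))) := by
  let e := Functor.IsDenseSubsite.sheafEquiv J K G AddCommGrpCat.{u}
  haveI : PreservesBinaryBiproducts e.inverse :=
    preservesBinaryBiproducts_of_preservesBinaryProducts _
  haveI : e.inverse.Additive := Functor.additive_of_preservesBinaryBiproducts _
  have h0 : ExtColim Λ (SiteBase.freeAb J U) q :=
    (extColim_adm (adm_site hC) (good_eps hC U) q).of_iso Λ (SiteBase.freeShYonedaIso U)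
  have h1 : ExtColim Λ (SiteBase.freeAb K (G.obj U)) q :=
    extColim_of_isEquivalence e.inverse
      (h0.of_iso Λ (e.unitIso.app _ ≪≫ e.inverse.mapIso (freeAbDenseIso K G U)))
  exact h1.preserves

/-- Cohomology over an object commutes with filtered colimits on a site with fibre products and
quasi-compact objects. -/
theorem preserves_cohomologyPresheaf_site [HasPullbacks C]
    (hC : ∀ X : C, ToposFin.IsQCSite J X) (U : C) (q : ℕ) :
    PreservesColimitsOfShape Λ ((Sheaf.cohomologyPresheafFunctor J q).flip.obj (op U)) :=
  preserves_cohomologyPresheaf Λ (adm_site hC) U (good_eps hC U) q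

end

end Groth.Agent.CohColim
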