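import Mathlib
import Groth.Prelude
import Groth.Agent.CohColim.Sections

/-!
# The site of compact opens
-/

set_option linter.style.haveILetI false

universe u

namespace Groth.Agent.CohColim

open CategoryTheory Limits Opposite TopologicalSpace

noncomputable section

variable (X : TopCat.{u})

/-- The compact opens. -/
abbrev COpens := {W : Opens X // IsCompact (W : Set X)}

/-- The inclusion of compact opens. -/
abbrev inclCOpens : COpens X ⥤ Opens X :=
  Monotone.functor (f := fun W : COpens X => W.1) fun _ _ h => h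

instance [QuasiSeparatedSpace X] : HasPullbacks (COpens X) := by
  haveI : ∀ {A B Z : COpens X} {f : A ⟶ Z} {g : B ⟶ Z}, HasLimit (cospan f g) := by
    intro A B Z f g
    let P : COpens X := ⟨A.1 ⊓ B.1, A.2.inter_of_isOpen B.2 A.1.isOpen B.1.isOpen⟩
    exact ⟨⟨⟨PullbackCone.mk (W := P) (homOfLE (inf_le_left : A.1 ⊓ B.1 ≤ A.1))
        (homOfLE (inf_le_right : A.1 ⊓ B.1 ≤ B.1)) (Subsingleton.elim _ _),
      PullbackCone.IsLimit.mk _
        (fun s => homOfLE (le_inf (leOfHom s.fst : s.pt.1 ≤ A.1) (leOfHom s.snd : s.pt.1 ≤ B.1)))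
        (fun _ => Subsingleton.elim _ _) (fun _ => Subsingleton.elim _ _)
        (fun _ _ _ _ => Subsingleton.elim _ _)⟩⟩⟩
  exact hasPullbacks_of_hasLimit_cospan _

instance : (inclCOpens X).Full where
  map_surjective {A B} f := ⟨homOfLE (leOfHom f), Subsingleton.elim _ _⟩

instance : (inclCOpens X).Faithful where

instance [PrespectralSpace X] :
    (inclCOpens X).IsCoverDense (Opens.grothendieckTopology X) where
  is_cover V := by
    intro x hx
    obtain ⟨W, ⟨hWo, hWc⟩, hxW, hWV⟩ :=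
      (PrespectralSpace.isTopologicalBasis (X := X)).exists_subset_of_mem_open hx V.isOpen
    exact ⟨⟨W, hWo⟩, homOfLE hWV, ⟨⟨⟨⟨W, hWo⟩, hWc⟩, 𝟙 _, homOfLE hWV, Category.id_comp _⟩⟩, hxW⟩

/-- The topology on compact opens. -/
abbrev topCOpens [PrespectralSpace X] : GrothendieckTopology (COpens X) :=
  (inclCOpens X).restrictedTopology (Opens.grothendieckTopology X)

theorem isQCSite_topCOpens [PrespectralSpace X] (U : COpens X) :
    ToposFin.IsQCSite (topCOpens X) U := by
  intro S hS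
  rw [Functor.mem_restrictedTopology_iff] at hS
  have h : ∀ x : U.1, ∃ (V : COpens X) (g : V ⟶ U), S g ∧ x.1 ∈ V.1 := by
    rintro ⟨x, hx⟩
    obtain ⟨W, f, ⟨V, a, b, ha, -⟩, hxW⟩ := hS x hx
    exact ⟨V, a, ha, leOfHom b hxW⟩
  choose V g hg hw using h
  obtain ⟨t, ht⟩ := U.2.elim_finite_subcover (fun x : U.1 => ((V x).1 : Set X))
    (fun x => (V x).1.isOpen) (fun x hx => Set.mem_iUnion.2 ⟨⟨x, hx⟩, hw ⟨x, hx⟩⟩)
  refine ⟨t.card, fun k => V (t.equivFin.symm k), fun k => g _, fun k => hg _, ?_⟩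
  rw [Functor.mem_restrictedTopology_iff]
  intro x hx
  obtain ⟨i, hit, hxi⟩ := Set.mem_iUnion₂.1 (ht hx)
  refine ⟨(V i).1, (inclCOpens X).map (g i), ⟨_, g i, 𝟙 _, ?_, (Category.id_comp _).symm⟩, hxi⟩
  have h' := Sieve.ofArrows_mk (fun k => V (t.equivFin.symm k)) (fun k => g (t.equivFin.symm k))
    (t.equivFin ⟨i, hit⟩)
  rwa [Equiv.symm_apply_apply] at h' 

theorem preserves_cohomology_compactOpen [PrespectralSpace X] [QuasiSeparatedSpace X]
    (U : Opens X) (hU : IsCompact (U : Set X)) (q : ℕ) (Λ : Type u) [SmallCategory Λ]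
    [IsFiltered Λ] :
    PreservesColimitsOfShape Λ
      ((Sheaf.cohomologyPresheafFunctor (Opens.grothendieckTopology X) q).flip.obj (op U) :
        CohTop.Ab X ⥤ AddCommGrpCat.{u}) :=
  preserves_cohomologyPresheaf_dense (J := topCOpens X) (Opens.grothendieckTopology X)
    (inclCOpens X) Λ (isQCSite_topCOpens X) (⟨U, hU⟩ : COpens X) q

end

end Groth.Agent.CohColim
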