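import Mathlib
import Groth.Prelude
import Groth.Agent.SiteBase.RpushNat

/-!
# Commuting with a colimit locally
-/

universe u

namespace Groth.Agent.CohColim

open CategoryTheory Limits Opposite

noncomputable section

variable {C D : Type u} [SmallCategory C] [SmallCategory D] {J : GrothendieckTopology C}
  (K : GrothendieckTopology D)

/-- A map of presheaves which is bijective on a covering of every object is a local isomorphism. -/
theorem isIso_sheafify_map {P Q : Dᵒᵖ ⥤ AddCommGrpCat.{u}} (φ : P ⟶ Q)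
    (h : ∀ V : D, ∃ (κ : Type u) (Y : κ → D) (g : ∀ k, Y k ⟶ V), Sieve.ofArrows Y g ∈ K V ∧
      ∀ k, IsIso (φ.app (op (Y k)))) :
    IsIso ((presheafToSheaf K AddCommGrpCat.{u}).map φ) := by
  have : Presheaf.IsLocallyInjective K φ := by
    refine ⟨fun {X} x y hxy => ?_⟩
    obtain ⟨κ, Z, g, hg, hY⟩ := h X.unop
    refine K.superset_covering ((Sieve.generate_le_iff _ _).2 ?_) hg
    rintro W _ ⟨k⟩
    have := hY k
    apply (ConcreteCategory.bijective_of_isIso (φ.app (op (Z k)))).1
    rw [NatTrans.naturality_apply, NatTrans.naturality_apply, hxy]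
  have : Presheaf.IsLocallySurjective K φ := by
    refine ⟨fun {X} t => ?_⟩
    obtain ⟨κ, Z, g, hg, hY⟩ := h X
    refine K.superset_covering ((Sieve.generate_le_iff _ _).2 ?_) hg
    rintro W _ ⟨k⟩
    have := hY k
    exact (ConcreteCategory.bijective_of_isIso (φ.app (op (Z k)))).2 _
  rw [← GrothendieckTopology.W_iff, GrothendieckTopology.W_iff_isLocallyBijective]
  exact ⟨inferInstance, inferInstance⟩

theorem preservesColimit_sheafify {A : Type*} [Category A] {ι : Type u} [SmallCategory ι]
    (F : ι ⥤ A) [HasColimit F] (G : A ⥤ Dᵒᵖ ⥤ AddCommGrpCat.{u})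
    (h : ∀ V : D, ∃ (κ : Type u) (Y : κ → D) (g : ∀ k, Y k ⟶ V), Sieve.ofArrows Y g ∈ K V ∧
      ∀ k, PreservesColimit F (G ⋙ (evaluation _ _).obj (op (Y k)))) :
    PreservesColimit F (G ⋙ presheafToSheaf K AddCommGrpCat.{u}) := by
  let φ : colimit (F ⋙ G) ⟶ G.obj (colimit F) := colimit.post F G
  have : IsIso ((presheafToSheaf K AddCommGrpCat.{u}).map φ) := by
    refine isIso_sheafify_map K φ fun V => ?_
    obtain ⟨κ, Y, g, hg, hY⟩ := h V
    refine ⟨κ, Y, g, hg, fun k => ?_⟩
    have := hY k
    let E := (evaluation Dᵒᵖ AddCommGrpCat.{u}).obj (op (Y k))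
    let h₁ : IsColimit (E.mapCocone (colimit.cocone (F ⋙ G))) :=
      isColimitOfPreserves E (colimit.isColimit _)
    let h₂ : IsColimit ((G ⋙ E).mapCocone (colimit.cocone F)) :=
      isColimitOfPreserves _ (colimit.isColimit _)
    have he : E.map φ = (h₁.coconePointUniqueUpToIso h₂).hom := h₁.hom_ext fun j => by
      refine Eq.trans ?_ (h₁.comp_coconePointUniqueUpToIso_hom h₂ j).symm
      simp only [Functor.mapCocone_ι_app, colimit.cocone_ι, E, φ, evaluation_obj_map, Functor.comp_map]
      rw [← NatTrans.comp_app, colimit.ι_post]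
    show IsIso (E.map φ)
    rw [he]
    infer_instance
  have : PreservesColimitsOfShape ι (presheafToSheaf K AddCommGrpCat.{u}) :=
    (sheafificationAdjunction K AddCommGrpCat.{u}).leftAdjoint_preservesColimits.preservesColimitsOfShape
  refine preservesColimit_of_preserves_colimit_cocone (colimit.isColimit F) ?_
  exact (isColimitOfPreserves (presheafToSheaf K AddCommGrpCat.{u})
    (colimit.isColimit (F ⋙ G))).ofIsoColimit
    (Cocone.ext (asIso ((presheafToSheaf K AddCommGrpCat.{u}).map φ)) fun j => by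
      simp [φ, ← Functor.map_comp])

variable (J) (u : D ⥤ C) [u.IsContinuous K J] {ι : Type u} [SmallCategory ι]

theorem preservesColimit_Rpush (F : ι ⥤ Sheaf J AddCommGrpCat.{u}) (p : ℕ)
    (h : ∀ V : D, ∃ (κ : Type u) (Y : κ → D) (g : ∀ k, Y k ⟶ V), Sieve.ofArrows Y g ∈ K V ∧
      ∀ k, PreservesColimit F
        ((Sheaf.cohomologyPresheafFunctor J p).flip.obj (op (u.obj (Y k))))) :
    PreservesColimit F (CohSite.Rpush J K u p) := by
  have : PreservesColimit F ((Sheaf.cohomologyPresheafFunctor J p ⋙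
      (Functor.whiskeringLeft _ _ AddCommGrpCat.{u}).obj u.op) ⋙
      presheafToSheaf K AddCommGrpCat.{u}) := by
    refine preservesColimit_sheafify K F _ fun V => ?_
    obtain ⟨κ, Y, g, hg, hY⟩ := h V
    exact ⟨κ, Y, g, hg, fun k => hY k⟩
  exact preservesColimit_of_natIso F (Functor.associator _ _ _ ≪≫
    (SiteBase.rpushNatIso J K u p).symm)

end

end Groth.Agent.CohColim
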