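import Mathlib
import Groth.Prelude
import Groth.Agent.CohColim.EtQC
import Groth.Agent.CohColim.H0
import Groth.Agent.CohColim.Homology
import Groth.Agent.S14621

/-!
# Sections over quasi-compact quasi-separated étale schemes
-/

set_option linter.style.haveILetI false
set_option backward.isDefEq.respectTransparency false
set_option backward.isDefEq.respectTransparency.types false

universe u

namespace Groth.Agent.CohColim

open CategoryTheory Limits Opposite AlgebraicGeometry

noncomputable section

variable (X : Scheme.{u}) (Λ : Type (u + 1)) [SmallCategory Λ] [IsFiltered Λ]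

/-- Sections of sheaves of sets over a qcqs étale scheme commute with filtered colimits. -/
theorem preserves_sectionsSet (U : X.Etale) [CompactSpace U.left] [QuasiSeparatedSpace U.left] :
    PreservesColimitsOfShape Λ (sheafToPresheaf X.smallEtaleTopology (Type (u + 1)) ⋙
      (evaluation X.Etaleᵒᵖ (Type (u + 1))).obj (op U)) := by
  let e := Functor.IsDenseSubsite.sheafEquiv (topQC X) X.smallEtaleTopology (inclQC X)
    (Type (u + 1))
  let u₀ : EtQC X := ULiftHom.objUp ⟨U, ⟨inferInstance, inferInstance⟩⟩
  haveI := S14621.result (topQC X) (isQCSite_topQC X) Λ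
  haveI : PreservesColimitsOfShape Λ e.inverse := inferInstance
  exact preservesColimitsOfShape_of_natIso (NatIso.ofComponents (fun F => Iso.refl _)
    (fun f => by ext x; rfl) :
    e.inverse ⋙ sheafToPresheaf (topQC X) (Type (u + 1)) ⋙
      (evaluation (EtQC X)ᵒᵖ (Type (u + 1))).obj (op u₀) ≅
      sheafToPresheaf X.smallEtaleTopology (Type (u + 1)) ⋙
        (evaluation X.Etaleᵒᵖ (Type (u + 1))).obj (op U))

/-- Sections of abelian sheaves over a qcqs étale scheme commute with filtered colimits. -/
theorem preserves_sectionsAb (U : X.Etale) [CompactSpace U.left] [QuasiSeparatedSpace U.left] :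
    PreservesColimitsOfShape Λ (sheafToPresheaf X.smallEtaleTopology AddCommGrpCat.{u + 1} ⋙
      (evaluation X.Etaleᵒᵖ AddCommGrpCat.{u + 1}).obj (op U)) := by
  haveI : PreservesColimitsOfShape Λ
      (sheafCompose X.smallEtaleTopology (forget AddCommGrpCat.{u + 1})) := by
    let e := Functor.IsDenseSubsite.sheafEquiv (topQC X) X.smallEtaleTopology (inclQC X)
      AddCommGrpCat.{u + 1}
    let e' := Functor.IsDenseSubsite.sheafEquiv (topQC X) X.smallEtaleTopology (inclQC X)
      (Type (u + 1))
    haveI := preservesColimitsOfShape_forgetSh (topQC X) Λ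
    haveI : PreservesColimitsOfShape Λ (sheafCompose X.smallEtaleTopology
        (forget AddCommGrpCat.{u + 1}) ⋙ e'.inverse) :=
      preservesColimitsOfShape_of_natIso (NatIso.ofComponents (fun F => Iso.refl _)
        (fun f => by ext; rfl) :
        e.inverse ⋙ sheafCompose (topQC X) (forget AddCommGrpCat.{u + 1}) ≅
          sheafCompose X.smallEtaleTopology (forget AddCommGrpCat.{u + 1}) ⋙ e'.inverse)
    exact preservesColimitsOfShape_of_reflects_of_preserves _ e'.inverse
  haveI := preserves_sectionsSet X Λ U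
  haveI : PreservesColimitsOfShape Λ ((sheafToPresheaf X.smallEtaleTopology AddCommGrpCat.{u + 1} ⋙
      (evaluation X.Etaleᵒᵖ AddCommGrpCat.{u + 1}).obj (op U)) ⋙ forget AddCommGrpCat.{u + 1}) :=
    preservesColimitsOfShape_of_natIso (NatIso.ofComponents (fun F => Iso.refl _)
      (fun f => by ext; rfl) :
      sheafCompose X.smallEtaleTopology (forget AddCommGrpCat.{u + 1}) ⋙
        sheafToPresheaf X.smallEtaleTopology (Type (u + 1)) ⋙
          (evaluation X.Etaleᵒᵖ (Type (u + 1))).obj (op U) ≅
        (sheafToPresheaf X.smallEtaleTopology AddCommGrpCat.{u + 1} ⋙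
          (evaluation X.Etaleᵒᵖ AddCommGrpCat.{u + 1}).obj (op U)) ⋙ forget AddCommGrpCat.{u + 1})
  haveI : ReflectsColimitsOfShape Λ (forget AddCommGrpCat.{u + 1}) :=
    reflectsColimitsOfShape_of_reflectsIsomorphisms
  exact preservesColimitsOfShape_of_reflects_of_preserves _ (forget AddCommGrpCat.{u + 1})

end

end Groth.Agent.CohColim

namespace Groth.Agent.CohColim

open CategoryTheory Limits Opposite AlgebraicGeometry

noncomputable section

variable (X : Scheme.{u}) (Λ : Type (u + 1)) [SmallCategory Λ] [IsFiltered Λ]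

/-- Objects over `U` with qcqs underlying scheme. -/
def qcqsOver (U : X.Etale) : ObjectProperty (Over U) := fun W => qcqsProp X W.left

instance (U : X.Etale) : (qcqsOver X U).IsClosedUnderIsomorphisms :=
  ⟨fun {_ _} e h => (qcqsProp X).prop_of_iso ((Over.forget U).mapIso e) h⟩

theorem qcqsOver_closed (U : X.Etale) (hU : qcqsProp X U) [HasFiniteProducts (Over U)] :
    (qcqsOver X U).IsClosedUnderFiniteProducts := by
  haveI : (qcqsOver X U).IsClosedUnderLimitsOfShape (Discrete.{0} PEmpty) :=
    .mk' <| by
      rintro W ⟨F, hF⟩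
      have e : (limit F).left ≅ U :=
        (Over.forget U).mapIso ((HasLimit.isoOfNatIso (Functor.uniqueFromEmpty F)).trans
          (terminalIsTerminal.uniqueUpToIso Over.mkIdTerminal))
      exact (qcqsProp X).prop_of_iso e.symm hU
  haveI : (qcqsOver X U).IsClosedUnderBinaryProducts :=
    .mk' <| by
      rintro W ⟨F, hF⟩
      have e : (limit F).left ≅ Limits.pullback (F.obj ⟨WalkingPair.left⟩).hom
          (F.obj ⟨WalkingPair.right⟩).hom :=
        (Over.forget U).mapIso (HasLimit.isoOfNatIso (diagramIsoPair F)) ≪≫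
          Over.prodLeftIsoPullback _ _
      exact (qcqsProp X).prop_of_iso e.symm
        (qcqsProp_pullback X _ _ (hF _) (hF _) hU)
  exact ObjectProperty.IsClosedUnderFiniteProducts.mk'

/-- Čech cohomology of a finite qcqs family commutes with filtered colimits. -/
theorem preserves_cechH (U : X.Etale) (hU : qcqsProp X U) [HasFiniteProducts (Over U)]
    (ι : Type (u + 1)) [Finite ι] (Uf : ι → Over U) (hUf : ∀ i, qcqsProp X (Uf i).left) (q : ℕ) :
    PreservesColimitsOfShape Λ (sheafToPresheaf X.smallEtaleTopology AddCommGrpCat.{u + 1} ⋙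
      EtCech.cechHFunctor Uf q) := by
  haveI := qcqsOver_closed X U hU
  let G : Sheaf X.smallEtaleTopology AddCommGrpCat.{u + 1} ⥤ CochainComplex AddCommGrpCat.{u + 1} ℕ :=
    sheafToPresheaf X.smallEtaleTopology AddCommGrpCat.{u + 1} ⋙
      (Functor.whiskeringLeft (Over U)ᵒᵖ X.Etaleᵒᵖ AddCommGrpCat.{u + 1}).obj (Over.forget U).op ⋙
        cechComplexFunctor Uf
  haveI : PreservesColimitsOfShape Λ G := by
    refine HomologicalComplex.preservesColimitsOfShape_of_eval G fun n => ?_
    let W : (Fin (n + 1) → ι) → X.Etale := fun x => (∏ᶜ fun a => Uf (x a)).left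
    have hW : ∀ x, qcqsProp X (W x) := fun x =>
      (qcqsOver X U).prop_product fun a => hUf (x a)
    let ev : (x : Fin (n + 1) → ι) →
        Sheaf X.smallEtaleTopology AddCommGrpCat.{u + 1} ⥤ AddCommGrpCat.{u + 1} := fun x =>
      sheafToPresheaf X.smallEtaleTopology AddCommGrpCat.{u + 1} ⋙
        (evaluation X.Etaleᵒᵖ AddCommGrpCat.{u + 1}).obj (op (W x))
    haveI : ∀ x, PreservesColimitsOfShape Λ (ev x) := fun x => by
      haveI := (hW x).1
      haveI := (hW x).2
      exact preserves_sectionsAb X Λ (W x)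
    haveI : PreservesColimitsOfShape Λ
        (lim : (Discrete (Fin (n + 1) → ι) ⥤ AddCommGrpCat.{u + 1}) ⥤ AddCommGrpCat.{u + 1}) :=
      preservesColimitsOfShape_of_natIso HasBiproductsOfShape.colimIsoLim
    let Φ : Sheaf X.smallEtaleTopology AddCommGrpCat.{u + 1} ⥤
        (Discrete (Fin (n + 1) → ι) ⥤ AddCommGrpCat.{u + 1}) :=
      { obj := fun F => Discrete.functor fun x => (ev x).obj F
        map := fun f => Discrete.natTrans fun x => (ev x.as).map f }
    haveI : PreservesColimitsOfShape Λ Φ :=
      preservesColimitsOfShape_of_evaluation Φ Λ fun x => by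
        obtain ⟨x⟩ := x
        exact preservesColimitsOfShape_of_natIso (NatIso.ofComponents (fun F => Iso.refl _)
          (fun f => by simp [Φ]) : ev x ≅ Φ ⋙ (evaluation _ _).obj ⟨x⟩)
    exact preservesColimitsOfShape_of_natIso (NatIso.ofComponents (fun F => Iso.refl _)
      (fun f => by simp [Φ]; rfl) : Φ ⋙ lim ≅ G ⋙ HomologicalComplex.eval _ _ n)
  haveI := preservesColimitsOfShape_homology_ab (c := ComplexShape.up ℕ) (Λ := Λ) q
  exact inferInstanceAs (PreservesColimitsOfShape Λ
    (G ⋙ HomologicalComplex.homologyFunctor AddCommGrpCat.{u + 1} (ComplexShape.up ℕ) q))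

end

end Groth.Agent.CohColim
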