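import Mathlib
import Groth.Prelude
import Groth.Agent.CohColim.Sections

/-!
# The site of compact quasi-separated opens
-/

set_option linter.style.haveILetI false

universe u

namespace Groth.Agent.CohColim

open CategoryTheory Limits Opposite TopologicalSpace

noncomputable section

variable (X : TopCat.{u})

/-- The compact opens. -/
abbrev QSOpens := {W : Opens X // IsCompact (W : Set X) ∧ IsQuasiSeparated (W : Set X)}

/-- The inclusion of compact opens. -/
abbrev inclQSOpens : QSOpens X ⥤ Opens X :=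
  Monotone.functor (f := fun W : QSOpens X => W.1) fun _ _ h => h

instance : HasPullbacks (QSOpens X) := by
  haveI : ∀ {A B Z : QSOpens X} {f : A ⟶ Z} {g : B ⟶ Z}, HasLimit (cospan f g) := by
    intro A B Z f g
    let P : QSOpens X := ⟨A.1 ⊓ B.1, Z.2.2 A.1 B.1 (leOfHom f) A.1.isOpen A.2.1 (leOfHom g) B.1.isOpen B.2.1,
      A.2.2.of_subset Set.inter_subset_left⟩
    exact ⟨⟨⟨PullbackCone.mk (W := P) (homOfLE (inf_le_left : A.1 ⊓ B.1 ≤ A.1))
        (homOfLE (inf_le_right : A.1 ⊓ B.1 ≤ B.1)) (Subsingleton.elim _ _),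
      PullbackCone.IsLimit.mk _
        (fun s => homOfLE (le_inf (leOfHom s.fst : s.pt.1 ≤ A.1) (leOfHom s.snd : s.pt.1 ≤ B.1)))
        (fun _ => Subsingleton.elim _ _) (fun _ => Subsingleton.elim _ _)
        (fun _ _ _ _ => Subsingleton.elim _ _)⟩⟩⟩
  exact hasPullbacks_of_hasLimit_cospan _

instance : (inclQSOpens X).Full where
  map_surjective {A B} f := ⟨homOfLE (leOfHom f), Subsingleton.elim _ _⟩

instance : (inclQSOpens X).Faithful where

/-- Every open is covered by compact quasi-separated opens. -/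
class LocallyQS : Prop where
  basis : ∀ (x : X) (V : Opens X), x ∈ V → ∃ W : QSOpens X, x ∈ W.1 ∧ W.1 ≤ V

instance [LocallyQS X] :
    (inclQSOpens X).IsCoverDense (Opens.grothendieckTopology X) where
  is_cover V := by
    intro x hx
    obtain ⟨W, hxW, hWV⟩ := LocallyQS.basis x V hx
    exact ⟨W.1, homOfLE hWV, ⟨⟨W, 𝟙 _, homOfLE hWV, Category.id_comp _⟩⟩, hxW⟩

/-- The topology on compact opens. -/
abbrev topQSOpens [LocallyQS X] : GrothendieckTopology (QSOpens X) :=
  (inclQSOpens X).restrictedTopology (Opens.grothendieckTopology X)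

theorem isQCSite_topQSOpens [LocallyQS X] (U : QSOpens X) :
    ToposFin.IsQCSite (topQSOpens X) U := by
  intro S hS
  rw [Functor.mem_restrictedTopology_iff] at hS
  have h : ∀ x : U.1, ∃ (V : QSOpens X) (g : V ⟶ U), S g ∧ x.1 ∈ V.1 := by
    rintro ⟨x, hx⟩
    obtain ⟨W, f, ⟨V, a, b, ha, -⟩, hxW⟩ := hS x hx
    exact ⟨V, a, ha, leOfHom b hxW⟩
  choose V g hg hw using h
  obtain ⟨t, ht⟩ := U.2.1.elim_finite_subcover (fun x : U.1 => ((V x).1 : Set X))
    (fun x => (V x).1.isOpen) (fun x hx => Set.mem_iUnion.2 ⟨⟨x, hx⟩, hw ⟨x, hx⟩⟩)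
  refine ⟨t.card, fun k => V (t.equivFin.symm k), fun k => g _, fun k => hg _, ?_⟩
  rw [Functor.mem_restrictedTopology_iff]
  intro x hx
  obtain ⟨i, hit, hxi⟩ := Set.mem_iUnion₂.1 (ht hx)
  refine ⟨(V i).1, (inclQSOpens X).map (g i), ⟨_, g i, 𝟙 _, ?_, (Category.id_comp _).symm⟩, hxi⟩
  have h' := Sieve.ofArrows_mk (fun k => V (t.equivFin.symm k)) (fun k => g (t.equivFin.symm k))
    (t.equivFin ⟨i, hit⟩)
  rwa [Equiv.symm_apply_apply] at h' 

theorem preserves_cohomology_qsOpen [LocallyQS X]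
    (U : Opens X) (hU : IsCompact (U : Set X) ∧ IsQuasiSeparated (U : Set X)) (q : ℕ) (Λ : Type u) [SmallCategory Λ]
    [IsFiltered Λ] :
    PreservesColimitsOfShape Λ
      ((Sheaf.cohomologyPresheafFunctor (Opens.grothendieckTopology X) q).flip.obj (op U) :
        CohTop.Ab X ⥤ AddCommGrpCat.{u}) :=
  preserves_cohomologyPresheaf_dense (J := topQSOpens X) (Opens.grothendieckTopology X)
    (inclQSOpens X) Λ (isQCSite_topQSOpens X) (⟨U, hU⟩ : QSOpens X) q

end

end Groth.Agent.CohColim
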